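import Mathlib

/-!
# The Galois step

An irreducible element `c` of `2`-power order on a vector space over `𝔽_q`, normalized by an element
inducing an involutory automorphism of `𝔽_q[c]` which inverts the element of order four: then the
space has at most `q²` elements.
-/

set_option autoImplicit false

namespace Cfsg.Agent.Lib.Baer.FieldStep

open Polynomial

theorem exists_pow_two_pow_eq {q : ℕ} (hq : Odd q) (m : ℕ) : ∃ t : ℕ, q ^ 2 ^ m = 2 ^ m * t + 1 := by
  induction m with
  | zero =>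
    obtain ⟨r, rfl⟩ := hq
    exact ⟨2 * r, by simp⟩
  | succ m ih =>
    obtain ⟨t, ht⟩ := ih
    have hw : Odd (q ^ 2 ^ m) := hq.pow
    obtain ⟨u, hu⟩ := hw
    refine ⟨t * (u + 1), ?_⟩
    have h1 : q ^ 2 ^ (m + 1) = (q ^ 2 ^ m) * (q ^ 2 ^ m) := by
      rw [pow_succ, pow_mul, pow_two]
    have h2 : 2 ^ m * t = 2 * u := by omega
    have h4 : (2 : ℕ) ^ (m + 1) * (t * (u + 1)) = 2 * (2 ^ m * t) * (u + 1) := by
      rw [pow_succ]
      ring
    rw [h1, h4, h2, hu]
    ring

theorem sq_mod_four {q : ℕ} (hq : Odd q) (i : ℕ) : ∃ t : ℕ, q ^ (i + i) = 4 * t + 1 := by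
  have h : (q * q) % 4 = 1 := by
    obtain ⟨r, rfl⟩ := hq
    have : (2 * r + 1) * (2 * r + 1) = 4 * (r * r + r) + 1 := by ring
    omega
  have h2 : (q * q) ^ i % 4 = 1 := by
    rw [Nat.pow_mod, h]
    simp
  refine ⟨(q * q) ^ i / 4, ?_⟩
  have h3 : q ^ (i + i) = (q * q) ^ i := by
    rw [mul_pow, pow_add]
  rw [h3]
  omega

/-- The field statement. -/
theorem card_le_of_galois {q : ℕ} [hq : Fact q.Prime] (hodd : q ≠ 2)
    {L : Type*} [Field L] [Finite L] [Algebra (ZMod q) L]
    {α y : L} {m : ℕ} (hα : α ^ 2 ^ m = 1) (hgen : Algebra.adjoin (ZMod q) {α} = ⊤)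
    (σ : L ≃ₐ[ZMod q] L) (hσσ : σ (σ α) = α) (hy : y * y = -1) (hσy : σ y = -y) :
    Nat.card L ≤ q ^ 2 := by
  classical
  haveI := Fintype.ofFinite L
  haveI : Algebra.IsAlgebraic (ZMod q) L := Algebra.IsAlgebraic.of_finite _ _
  set φ := FiniteField.frobeniusAlgEquivOfAlgebraic (ZMod q) L with hφ
  have hφapp : ∀ (n : ℕ) (x : L), (φ ^ n) x = x ^ (q ^ n) := by
    intro n x
    rw [AlgEquiv.coe_pow, hφ, FiniteField.coe_frobeniusAlgEquivOfAlgebraic_iterate, ZMod.card]
  obtain ⟨⟨j, hj⟩, hσ⟩ := (FiniteField.bijective_frobeniusAlgEquivOfAlgebraic_pow (ZMod q) L).2 σ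
  simp only at hσ
  have hqodd : Odd q := hq.out.odd_of_ne_two hodd
  have hy4 : y ^ 4 = 1 := by
    calc y ^ 4 = (y * y) * (y * y) := by ring
      _ = 1 := by rw [hy]; ring
  have hchar : (2 : L) ≠ 0 := by
    intro h
    have h1 : ((2 : ZMod q)) = 0 := by
      have : algebraMap (ZMod q) L 2 = 0 := by rw [map_ofNat]; exact h
      exact (map_eq_zero _).1 this
    have h2 : ((2 : ℕ) : ZMod q) = 0 := by exact_mod_cast h1
    rw [ZMod.natCast_eq_zero_iff] at h2
    exact hodd ((Nat.prime_dvd_prime_iff_eq hq.out Nat.prime_two).1 h2)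
  have hy0 : y ≠ 0 := by
    rintro rfl
    have : (0 : L) * 0 = -1 := hy
    simp at this
  have hjodd : Odd j := by
    by_contra hje
    rw [Nat.not_odd_iff_even] at hje
    obtain ⟨i, rfl⟩ := hje
    obtain ⟨t, ht⟩ := sq_mod_four hqodd i
    have h1 : σ y = y := by
      rw [← hσ, hφapp, ht, pow_succ, pow_mul, hy4, one_pow, one_mul]
    rw [h1] at hσy
    have h2 : 2 * y = 0 := by
      calc 2 * y = y + y := by ring
        _ = (-y) + y := by rw [← hσy]
        _ = 0 := by ring
    rcases mul_eq_zero.1 h2 with h3 | h3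
    · exact hchar h3
    · exact hy0 h3
  -- powers of Frobenius fixing `α` are trivial
  have htriv : ∀ n : ℕ, (φ ^ n) α = α → φ ^ n = 1 := by
    intro n hn
    have h1 : ((φ ^ n : L ≃ₐ[ZMod q] L) : L →ₐ[ZMod q] L) = AlgHom.id (ZMod q) L := by
      apply AlgHom.ext_of_adjoin_eq_top hgen
      intro x hx
      rw [Set.mem_singleton_iff] at hx
      rw [hx]
      exact hn
    ext x
    exact DFunLike.congr_fun h1 x
  have h2j : φ ^ (2 * j) = 1 := by
    apply htriv
    have h1 : φ ^ (2 * j) = (φ ^ j) * (φ ^ j) := by rw [two_mul, pow_add]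
    rw [h1, hσ]
    exact hσσ
  have h2m : φ ^ (2 ^ m) = 1 := by
    apply htriv
    obtain ⟨t, ht⟩ := exists_pow_two_pow_eq hqodd m
    rw [hφapp, ht, pow_succ, pow_mul, hα, one_pow, one_mul]
  have hord := FiniteField.orderOf_frobeniusAlgEquivOfAlgebraic (ZMod q) L
  have hd1 : orderOf φ ∣ 2 * j := orderOf_dvd_of_pow_eq_one h2j
  have hd2 : orderOf φ ∣ 2 ^ m := orderOf_dvd_of_pow_eq_one h2m
  obtain ⟨s, -, hs⟩ := (Nat.dvd_prime_pow Nat.prime_two).1 hd2
  have hs1 : s ≤ 1 := by
    by_contra hlt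
    have h4 : 2 ^ 2 ∣ orderOf φ := by
      rw [hs]
      exact pow_dvd_pow 2 (by omega)
    have h5 : 4 ∣ 2 * j := h4.trans hd1
    obtain ⟨r, hr⟩ := hjodd
    omega
  have hfin : Module.finrank (ZMod q) L ≤ 2 := by
    rw [← hord, hs]
    interval_cases s <;> norm_num
  rw [Nat.card_eq_fintype_card, Module.card_eq_pow_finrank (K := ZMod q), ZMod.card]
  exact Nat.pow_le_pow_right hq.out.pos hfin

/-- The endomorphism statement. -/
theorem card_le_of_End {q : ℕ} [hq : Fact q.Prime] (hodd : q ≠ 2)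
    {V : Type*} [AddCommGroup V] [Module (ZMod q) V] [Finite V] [Nontrivial V]
    (c y : Module.End (ZMod q) V) (u : (Module.End (ZMod q) V)ˣ) {m k r : ℕ}
    (hcm : c ^ 2 ^ m = 1)
    (hirr : ∀ W : Submodule (ZMod q) V, (∀ w ∈ W, c w ∈ W) → W = ⊥ ∨ W = ⊤)
    (htc : (u : Module.End (ZMod q) V) * c * (u⁻¹ : (Module.End (ZMod q) V)ˣ) = c ^ k)
    (hk2 : c ^ (k * k) = c) (hy : y = c ^ r) (hyy : y * y = -1)
    (hty : (u : Module.End (ZMod q) V) * y * (u⁻¹ : (Module.End (ZMod q) V)ˣ) = -y) :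
    Nat.card V ≤ q ^ 2 := by
  classical
  haveI : Module.Finite (ZMod q) V := Module.Finite.of_finite
  have hint : IsIntegral (ZMod q) c := IsIntegral.of_finite _ c
  set f := minpoly (ZMod q) c with hf
  have hmon : f.Monic := minpoly.monic hint
  have hcf : aeval c f = 0 := minpoly.aeval _ _
  have hcomm : ∀ (g : (ZMod q)[X]) (v : V), c (aeval c g v) = aeval c g (c v) := by
    intro g v
    have h1 : c * aeval c g = aeval c g * c := by
      have h2 : aeval c (X * g) = aeval c (g * X) := by rw [mul_comm]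
      simpa [map_mul] using h2
    exact LinearMap.congr_fun h1 v
  have hirrf : Irreducible f := by
    rw [hmon.irreducible_iff_natDegree]
    refine ⟨?_, ?_⟩
    · intro h1
      rw [h1, map_one] at hcf
      exact one_ne_zero hcf
    · intro g h hg hh hgh
      have hdeg : f.natDegree = g.natDegree + h.natDegree := by
        rw [← hgh, hg.natDegree_mul hh]
      rcases hirr (LinearMap.ker (aeval c g)) (by
          intro w hw
          rw [LinearMap.mem_ker] at hw ⊢
          rw [← hcomm, hw, map_zero]) with h1 | h1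
      · left
        have h2 : aeval c h = 0 := by
          ext v
          have h3 : aeval c g (aeval c h v) = 0 := by
            have h4 : aeval c g * aeval c h = 0 := by
              rw [← map_mul, hgh, hcf]
            exact LinearMap.congr_fun h4 v
          have h5 : aeval c h v ∈ LinearMap.ker (aeval c g) := h3
          rw [h1, Submodule.mem_bot] at h5
          simpa using h5
        have h6 : f ∣ h := minpoly.dvd _ _ h2
        have h7 := Polynomial.natDegree_le_of_dvd h6 hh.ne_zero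
        omega
      · right
        have h2 : aeval c g = 0 := LinearMap.ker_eq_top.1 h1
        have h6 : f ∣ g := minpoly.dvd _ _ h2
        have h7 := Polynomial.natDegree_le_of_dvd h6 hg.ne_zero
        omega
  haveI : Fact (Irreducible f) := ⟨hirrf⟩
  let L := AdjoinRoot f
  haveI hLfin : Module.Finite (ZMod q) L := (AdjoinRoot.powerBasis hirrf.ne_zero).finite
  haveI : Finite L := Module.finite_of_finite (ZMod q)
  let ψ : L →ₐ[ZMod q] Module.End (ZMod q) V :=
    Ideal.Quotient.liftₐ (Ideal.span {f}) (aeval c) (by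
      intro a ha
      obtain ⟨b, rfl⟩ := Ideal.mem_span_singleton.1 ha
      rw [map_mul, hcf, zero_mul])
  have hψα : ψ (AdjoinRoot.root f) = c := by
    show aeval c X = c
    simp
  have hψinj : Function.Injective ψ := ψ.toRingHom.injective
  set α : L := AdjoinRoot.root f with hα
  have hαN : α ^ 2 ^ m = 1 := by
    apply hψinj
    rw [map_pow, hψα, hcm, map_one]
  -- the automorphism
  have hconj : ∀ g : (ZMod q)[X], aeval ((u : Module.End (ZMod q) V) * c *
      (u⁻¹ : (Module.End (ZMod q) V)ˣ)) g =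
      (u : Module.End (ZMod q) V) * aeval c g * (u⁻¹ : (Module.End (ZMod q) V)ˣ) := by
    intro g
    induction g using Polynomial.induction_on' with
    | add p₁ p₂ h₁ h₂ =>
      rw [map_add, map_add, h₁, h₂, mul_add, add_mul]
    | monomial n a =>
      rw [aeval_monomial, aeval_monomial, Units.conj_pow]
      simp only [Algebra.algebraMap_eq_smul_one]
      simp [mul_assoc]
  have hk : aeval (α ^ k) f = 0 := by
    apply hψinj
    rw [← Polynomial.aeval_algHom_apply, map_pow, hψα, ← htc, hconj, hcf]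
    simp
  let σ₀ : L →ₐ[ZMod q] L := AdjoinRoot.liftAlgHom f (Algebra.ofId _ _) (α ^ k) hk
  have hσ₀ : σ₀ α = α ^ k := AdjoinRoot.liftAlgHom_root _ _ _ _
  have hbij : Function.Bijective σ₀ := by
    have h1 : Function.Injective σ₀ := σ₀.toRingHom.injective
    exact ⟨h1, Finite.injective_iff_surjective.1 h1⟩
  let σ : L ≃ₐ[ZMod q] L := AlgEquiv.ofBijective σ₀ hbij
  have hσ : ∀ x, σ x = σ₀ x := fun _ => rfl
  have hσσ : σ (σ α) = α := by
    rw [hσ, hσ, hσ₀, map_pow, hσ₀, ← pow_mul]
    apply hψinj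
    rw [map_pow, hψα, hk2]
  have hψy : ψ (α ^ r) = y := by rw [map_pow, hψα, hy]
  have hyL : α ^ r * α ^ r = -1 := by
    apply hψinj
    rw [map_mul, hψy, hyy, map_neg, map_one]
  have hσy : σ (α ^ r) = -(α ^ r) := by
    apply hψinj
    rw [hσ, map_pow, hσ₀, map_neg, hψy, map_pow, map_pow, hψα, ← htc, Units.conj_pow, ← hy, hty]
  have hcard := card_le_of_galois hodd hαN (AdjoinRoot.adjoinRoot_eq_top) σ hσσ hyL hσy
  -- `V` is a quotient of `L`
  obtain ⟨v₀, hv₀⟩ := exists_ne (0 : V)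
  let Φ : L →ₗ[ZMod q] V := (LinearMap.applyₗ v₀) ∘ₗ ψ.toLinearMap
  have hΦ : ∀ x, Φ x = ψ x v₀ := fun _ => rfl
  have hrange : LinearMap.range Φ = ⊤ := by
    rcases hirr (LinearMap.range Φ) (by
        rintro _ ⟨x, rfl⟩
        refine ⟨α * x, ?_⟩
        rw [hΦ, hΦ, map_mul, hψα]
        rfl) with h1 | h1
    · exfalso
      have h2 : Φ 1 ∈ LinearMap.range Φ := ⟨1, rfl⟩
      rw [h1, Submodule.mem_bot, hΦ, map_one] at h2
      exact hv₀ h2
    · exact h1
  have hsurj : Function.Surjective Φ := LinearMap.range_eq_top.1 hrange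
  exact (Nat.card_le_card_of_surjective Φ hsurj).trans hcard

end Cfsg.Agent.Lib.Baer.FieldStep
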