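import Mathlib
import Cfsg.Agent.Lib.PGroup.Basic

/-!
# `2`-groups without normal four-subgroups

A finite `2`-group in which `z` is a central involution and every other involution has a class not
inside `{e, e z}` is cyclic or has a cyclic subgroup of index two on which the outside elements
invert an element of order four.
-/

set_option autoImplicit false

namespace Cfsg.Agent.Lib.Baer.GT

open Subgroup

variable {X : Type*} [Group X]

theorem inv2 {c x : X} {m : ℕ} (hN : orderOf c = 2 ^ (m + 1)) (hx : x ∈ zpowers c)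
    (hx2 : x * x = 1) : x = 1 ∨ x = c ^ 2 ^ m := by
  obtain ⟨i, rfl⟩ := mem_zpowers_iff.1 hx
  have h0 : c ^ (2 * i) = 1 := by rw [two_mul, zpow_add]; exact hx2
  have h1 := orderOf_dvd_iff_zpow_eq_one.2 h0
  rw [hN] at h1
  push_cast at h1
  rw [pow_succ'] at h1
  have h2 : ((2 : ℤ) ^ m) ∣ i := (mul_dvd_mul_iff_left (by norm_num)).1 h1
  obtain ⟨j, rfl⟩ := h2
  have hc : c ^ ((2 : ℤ) ^ (m + 1)) = 1 := by
    have : c ^ (2 ^ (m + 1)) = 1 := by rw [← hN, pow_orderOf_eq_one]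
    rw [← this]
    norm_cast
  rcases Int.even_or_odd' j with ⟨l, rfl | rfl⟩
  · left
    have : (2 : ℤ) ^ m * (2 * l) = 2 ^ (m + 1) * l := by ring
    rw [this, zpow_mul, hc, one_zpow]
  · right
    have : (2 : ℤ) ^ m * (2 * l + 1) = 2 ^ (m + 1) * l + 2 ^ m := by ring
    rw [this, zpow_add, zpow_mul, hc, one_zpow, one_mul]
    norm_cast

theorem zpowers_normal_of_conj_mem {x : X} (h : ∀ g : X, g * x * g⁻¹ ∈ zpowers x) :
    (zpowers x).Normal := by
  refine ⟨fun n hn g => ?_⟩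
  obtain ⟨i, rfl⟩ := mem_zpowers_iff.1 hn
  rw [← conj_zpow]
  exact (zpowers x).zpow_mem (h g) i

variable [Finite X]

theorem exists_max_normal_zpowers :
    ∃ c : X, (zpowers c).Normal ∧ ∀ c' : X, (zpowers c').Normal → orderOf c' ≤ orderOf c := by
  haveI : Nonempty {c : X // (zpowers c).Normal} := ⟨⟨1, by
    rw [zpowers_one_eq_bot]
    infer_instance⟩⟩
  obtain ⟨⟨c, hc⟩, hmax⟩ := Finite.exists_max (fun c : {c : X // (zpowers c).Normal} => orderOf c.1)
  exact ⟨c, hc, fun c' hc' => hmax ⟨c', hc'⟩⟩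

section Ctx

variable (z c : X) (m : ℕ)

/-- The context. -/
structure Ctx : Prop where
  hX : IsPGroup 2 X
  hzc : z ∈ center X
  hz1 : z ≠ 1
  hz2 : z * z = 1
  hK : ∀ e : X, e * e = 1 → e ≠ 1 → e ≠ z → ∃ g, g * e * g⁻¹ ≠ e ∧ g * e * g⁻¹ ≠ e * z
  hcn : (zpowers c).Normal
  hmax : ∀ c' : X, (zpowers c').Normal → orderOf c' ≤ orderOf c
  hN : orderOf c = 2 ^ (m + 1)

variable {z c m}

theorem Ctx.conj_mem (H : Ctx z c m) {x : X} (hx : x ∈ zpowers c) (g : X) :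
    g * x * g⁻¹ ∈ zpowers c := H.hcn.conj_mem x hx g

theorem Ctx.z_comm (H : Ctx z c m) (g : X) : g * z = z * g :=
  ((Subgroup.mem_center_iff.1 H.hzc) g)

theorem Ctx.c_pow (H : Ctx z c m) : c ^ 2 ^ (m + 1) = 1 := by
  rw [← H.hN, pow_orderOf_eq_one]

theorem Ctx.z_eq (H : Ctx z c m) : z = c ^ 2 ^ m := by
  set z₁ := c ^ 2 ^ m with hz₁
  have h1 : z₁ ≠ 1 := by
    apply pow_ne_one_of_lt_orderOf (by positivity)
    rw [H.hN, pow_succ]
    have : 0 < 2 ^ m := by positivity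
    omega
  have h2 : z₁ * z₁ = 1 := by
    rw [hz₁, ← pow_add, ← two_mul, ← pow_succ', H.c_pow]
  have hmem : z₁ ∈ zpowers c := (zpowers c).pow_mem (mem_zpowers c) _
  by_contra hne
  obtain ⟨g, hg, -⟩ := H.hK z₁ h2 h1 (Ne.symm hne)
  apply hg
  have h3 : (g * z₁ * g⁻¹) * (g * z₁ * g⁻¹) = 1 := by
    calc (g * z₁ * g⁻¹) * (g * z₁ * g⁻¹) = g * (z₁ * z₁) * g⁻¹ := by group
      _ = 1 := by rw [h2]; group
  rcases inv2 H.hN (H.conj_mem hmem g) h3 with h4 | h4
  · exfalso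
    apply h1
    have : z₁ = g⁻¹ * (g * z₁ * g⁻¹) * g := by group
    rw [this, h4]
    group
  · exact h4

theorem Ctx.z_mem (H : Ctx z c m) : z ∈ zpowers c := by
  rw [H.z_eq]
  exact (zpowers c).pow_mem (mem_zpowers c) _

/-- Elements of `⟨c⟩` with square one. -/
theorem Ctx.inv2' (H : Ctx z c m) {x : X} (hx : x ∈ zpowers c) (hx2 : x * x = 1) :
    x = 1 ∨ x = z := by
  rw [H.z_eq]
  exact inv2 H.hN hx hx2

theorem Ctx.centralizer_normal (H : Ctx z c m) : (centralizer ({c} : Set X)).Normal := by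
  refine ⟨fun n hn g => ?_⟩
  rw [Subgroup.mem_centralizer_singleton_iff] at hn ⊢
  have h1 : g⁻¹ * c * g⁻¹⁻¹ ∈ zpowers c := H.conj_mem (mem_zpowers c) g⁻¹
  obtain ⟨i, hi⟩ := mem_zpowers_iff.1 h1
  have h2 : Commute n (g⁻¹ * c * g⁻¹⁻¹) := by
    rw [← hi]
    exact (show Commute n c from hn).zpow_right i
  have h3 : n * (g⁻¹ * c * g) = (g⁻¹ * c * g) * n := by simpa using h2.eq
  calc g * n * g⁻¹ * c = g * (n * (g⁻¹ * c * g)) * g⁻¹ := by group
    _ = g * ((g⁻¹ * c * g) * n) * g⁻¹ := by rw [h3]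
    _ = c * (g * n * g⁻¹) := by group

/-- **Step 2**: `⟨c⟩` is self-centralizing. -/
theorem Ctx.mem_of_commute (H : Ctx z c m) {g : X} (hg : Commute g c) : g ∈ zpowers c := by
  by_contra hgA
  haveI := H.hcn
  haveI hCn := H.centralizer_normal
  set A := zpowers c with hA
  let φ : X →* X ⧸ A := QuotientGroup.mk' A
  have hφs : Function.Surjective φ := QuotientGroup.mk'_surjective A
  have hX' : IsPGroup 2 (X ⧸ A) := H.hX.to_quotient A
  haveI : Fact (Nat.Prime 2) := ⟨Nat.prime_two⟩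
  let B := (centralizer ({c} : Set X)).map φ
  haveI hBn : B.Normal := Subgroup.Normal.map hCn φ hφs
  have hBne : B ≠ ⊥ := by
    intro h
    have h1 : φ g ∈ B := ⟨g, Subgroup.mem_centralizer_singleton_iff.2 hg, rfl⟩
    rw [h, Subgroup.mem_bot] at h1
    exact hgA ((QuotientGroup.eq_one_iff g).1 h1)
  have hne := Cfsg.Agent.Lib.PGroup.Basic.inf_center_ne_bot hX' hBne
  obtain ⟨x, ⟨hxB, hxZ⟩, hx1⟩ := Subgroup.ne_bot_iff_exists_ne_one.1 hne |>.elim
    (fun y hy => (⟨y.1, y.2, fun h => hy (Subtype.ext h)⟩ :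
      ∃ x, x ∈ B ⊓ center (X ⧸ A) ∧ x ≠ 1))
  -- a power of order two
  obtain ⟨k, hk⟩ := (IsPGroup.iff_orderOf.1 hX') x
  have hk0 : k ≠ 0 := by
    rintro rfl
    rw [pow_zero, orderOf_eq_one_iff] at hk
    exact hx1 hk
  obtain ⟨k', rfl⟩ : ∃ k', k = k' + 1 := ⟨k - 1, by omega⟩
  set w := x ^ 2 ^ k' with hw
  have hwB : w ∈ B := B.pow_mem hxB _
  have hwZ : w ∈ center (X ⧸ A) := (center (X ⧸ A)).pow_mem hxZ _
  have hw1 : w ≠ 1 := by
    apply pow_ne_one_of_lt_orderOf (by positivity)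
    rw [hk, pow_succ]
    have : 0 < 2 ^ k' := by positivity
    omega
  have hw2 : w * w = 1 := by
    rw [hw, ← pow_add, ← two_mul, ← pow_succ', ← hk, pow_orderOf_eq_one]
  obtain ⟨g₁, hg₁C, hg₁⟩ := hwB
  have hg₁c : Commute g₁ c := Subgroup.mem_centralizer_singleton_iff.1 hg₁C
  have hg₁A : g₁ ∉ A := by
    intro h
    apply hw1
    rw [← hg₁]
    exact (QuotientGroup.eq_one_iff g₁).2 h
  have hg₁2 : g₁ * g₁ ∈ A := by
    apply (QuotientGroup.eq_one_iff (g₁ * g₁)).1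
    have : φ (g₁ * g₁) = 1 := by rw [map_mul, hg₁, hw2]
    exact this
  -- conjugates stay in the coset
  have hconj : ∀ h : X, g₁⁻¹ * (h * g₁ * h⁻¹) ∈ A := by
    intro h
    apply (QuotientGroup.eq_one_iff _).1
    show φ (g₁⁻¹ * (h * g₁ * h⁻¹)) = 1
    rw [map_mul, map_inv, map_mul, map_mul, map_inv, hg₁]
    have := (Subgroup.mem_center_iff.1 hwZ) (φ h)
    rw [this]
    group
  obtain ⟨a, ha⟩ := mem_zpowers_iff.1 hg₁2
  rcases Int.even_or_odd' a with ⟨b, rfl | rfl⟩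
  · -- an involution outside `A`
    set e := g₁ * c ^ (-b) with he
    have hcomm : Commute g₁ (c ^ (-b)) := hg₁c.zpow_right _
    have hem : e * e = 1 := by
      have h1 : e * e = (g₁ * g₁) * (c ^ (-b) * c ^ (-b)) := by
        rw [he, hcomm.mul_mul_mul_comm]
      rw [h1, ← ha, ← zpow_add, ← zpow_add]
      have : 2 * b + (-b + -b) = 0 := by ring
      rw [this, zpow_zero]
    have heA : e ∉ A := by
      intro h
      apply hg₁A
      have : g₁ = e * c ^ b := by rw [he]; group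
      rw [this]
      exact A.mul_mem h (A.zpow_mem (mem_zpowers c) _)
    have he1 : e ≠ 1 := fun h => heA (h ▸ A.one_mem)
    have hez : e ≠ z := fun h => heA (h ▸ H.z_mem)
    obtain ⟨h, hh1, hh2⟩ := H.hK e hem he1 hez
    have hcomE : ∀ x ∈ A, Commute e x := by
      intro x hx
      obtain ⟨i, rfl⟩ := mem_zpowers_iff.1 hx
      apply Commute.zpow_right
      exact hg₁c.mul_left (Commute.zpow_left (Commute.refl c) _)
    set a₁ := e⁻¹ * (h * e * h⁻¹) with ha₁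
    have ha₁A : a₁ ∈ A := by
      have h1 : a₁ = c ^ b * (g₁⁻¹ * (h * g₁ * h⁻¹)) * (h * c ^ (-b) * h⁻¹) := by
        rw [ha₁, he]
        group
      rw [h1]
      exact A.mul_mem (A.mul_mem (A.zpow_mem (mem_zpowers c) _) (hconj h))
        (H.conj_mem (A.zpow_mem (mem_zpowers c) _) h)
    have ha₁2 : a₁ * a₁ = 1 := by
      have h1 : (h * e * h⁻¹) * (h * e * h⁻¹) = 1 := by
        calc (h * e * h⁻¹) * (h * e * h⁻¹) = h * (e * e) * h⁻¹ := by group
          _ = 1 := by rw [hem]; group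
      have h2 : h * e * h⁻¹ = e * a₁ := by rw [ha₁]; group
      rw [h2] at h1
      have h3 : e * a₁ * (e * a₁) = (e * e) * (a₁ * a₁) := by
        have h4 : a₁ * e = e * a₁ := (hcomE a₁ ha₁A).symm.eq
        calc e * a₁ * (e * a₁) = e * (a₁ * e) * a₁ := by group
          _ = e * (e * a₁) * a₁ := by rw [h4]
          _ = _ := by group
      rw [h3, hem, one_mul] at h1
      exact h1
    have h2 : h * e * h⁻¹ = e * a₁ := by rw [ha₁]; group
    rcases H.inv2' ha₁A ha₁2 with h3 | h3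
    · apply hh1
      rw [h2, h3, mul_one]
    · apply hh2
      rw [h2, h3]
  · -- `g₁` generates a bigger normal cyclic subgroup
    have hcg : c ∈ zpowers g₁ := by
      have h1 : c ^ (2 * b + 1) ∈ zpowers g₁ := by
        rw [ha]
        exact (zpowers g₁).mul_mem (mem_zpowers g₁) (mem_zpowers g₁)
      -- `2 b + 1` is prime to the order of `c`
      have hcop : Int.gcd (2 * b + 1) (orderOf c : ℤ) = 1 := by
        rw [H.hN]
        push_cast
        have : IsCoprime (2 * b + 1) ((2 : ℤ) ^ (m + 1)) := by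
          apply IsCoprime.pow_right
          exact ⟨1, -b, by ring⟩
        exact Int.isCoprime_iff_gcd_eq_one.1 this
      have h2 := Int.gcd_eq_gcd_ab (2 * b + 1) (orderOf c : ℤ)
      rw [hcop] at h2
      have h3 : c ^ ((2 * b + 1) * Int.gcdA (2 * b + 1) (orderOf c : ℤ) +
          (orderOf c : ℤ) * Int.gcdB (2 * b + 1) (orderOf c : ℤ)) = c := by
        have : ((2 * b + 1) * Int.gcdA (2 * b + 1) (orderOf c : ℤ) +
          (orderOf c : ℤ) * Int.gcdB (2 * b + 1) (orderOf c : ℤ)) = 1 := by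
          rw [← h2]
          rfl
        rw [this, zpow_one]
      rw [← h3, zpow_add, zpow_mul, zpow_mul]
      have h4 : c ^ (orderOf c : ℤ) = 1 := by rw [zpow_natCast, pow_orderOf_eq_one]
      rw [h4, one_zpow, mul_one]
      exact (zpowers g₁).zpow_mem h1 _
    have hAle : A ≤ zpowers g₁ := by
      rw [hA, zpowers_le]
      exact hcg
    have hn : (zpowers g₁).Normal := by
      apply zpowers_normal_of_conj_mem
      intro h
      have h1 : h * g₁ * h⁻¹ = g₁ * (g₁⁻¹ * (h * g₁ * h⁻¹)) := by group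
      rw [h1]
      exact (zpowers g₁).mul_mem (mem_zpowers g₁) (hAle (hconj h))
    have h1 := H.hmax g₁ hn
    have hlt : A < zpowers g₁ := lt_of_le_of_ne hAle (fun h => hg₁A (h ▸ mem_zpowers g₁))
    have h2 : Nat.card A < Nat.card (zpowers g₁) := by
      by_contra hle
      exact hlt.ne (Subgroup.eq_of_le_of_card_ge hAle (not_lt.1 hle))
    rw [hA, Nat.card_zpowers, Nat.card_zpowers] at h2
    omega

theorem Ctx.z_ne_one_pow (H : Ctx z c m) {r : ℤ} (hr : Odd r) : z ^ r = z := by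
  obtain ⟨l, rfl⟩ := hr
  have h1 : z ^ (2 : ℤ) = 1 := by
    have : z ^ 2 = 1 := by rw [pow_two]; exact H.hz2
    exact_mod_cast this
  rw [zpow_add, zpow_mul, h1, one_zpow, one_mul, zpow_one]

theorem Ctx.z_pow_even (H : Ctx z c m) {r : ℤ} (hr : Even r) : z ^ r = 1 := by
  obtain ⟨l, rfl⟩ := hr
  rw [zpow_add]
  have h1 : z ^ l * z ^ l = (z * z) ^ l := by
    have hc : Commute z z := Commute.refl z
    rw [hc.mul_zpow]
  rw [h1, H.hz2, one_zpow]

/-- `c` is not a generator of the centre. -/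
theorem Ctx.m_ne_zero (H : Ctx z c m) (hnc : ¬ IsCyclic X) : m ≠ 0 := by
  rintro rfl
  apply hnc
  have hzc : z = c := by
    rw [H.z_eq]
    simp
  refine ⟨⟨c, fun g => ?_⟩⟩
  apply H.mem_of_commute
  rw [← hzc]
  exact H.z_comm g

variable {m' : ℕ}

/-- The element of order four. -/
theorem Ctx.y_sq (H : Ctx z c (m' + 1)) : c ^ 2 ^ m' * c ^ 2 ^ m' = z := by
  rw [H.z_eq, ← pow_add, ← two_mul, ← pow_succ']

theorem Ctx.y_mem (_H : Ctx z c (m' + 1)) : c ^ 2 ^ m' ∈ zpowers c :=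
  (zpowers c).pow_mem (mem_zpowers c) _

theorem comm_of_mem {c a b : X} (ha : a ∈ zpowers c) (hb : b ∈ zpowers c) : a * b = b * a := by
  obtain ⟨i, rfl⟩ := mem_zpowers_iff.1 ha
  obtain ⟨j, rfl⟩ := mem_zpowers_iff.1 hb
  exact (Commute.refl c).zpow_zpow i j

/-- Elements of `⟨c⟩` with square `z`. -/
theorem Ctx.sq_eq (H : Ctx z c (m' + 1)) {x : X} (hx : x ∈ zpowers c) (hx2 : x * x = z) :
    x = c ^ 2 ^ m' ∨ x = (c ^ 2 ^ m')⁻¹ := by
  set y := c ^ 2 ^ m' with hy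
  have hyA : y ∈ zpowers c := H.y_mem
  have hyy : y * y = z := H.y_sq
  have hxy : x * y = y * x := comm_of_mem hx hyA
  have h1 : (x * y⁻¹) * (x * y⁻¹) = 1 := by
    have h2 : x * y⁻¹ = y⁻¹ * x := (show Commute x y from hxy).inv_right.eq
    calc (x * y⁻¹) * (x * y⁻¹) = x * (y⁻¹ * x) * y⁻¹ := by group
      _ = x * (x * y⁻¹) * y⁻¹ := by rw [h2]
      _ = (x * x) * (y * y)⁻¹ := by group
      _ = 1 := by rw [hx2, hyy]; group
  rcases H.inv2' ((zpowers c).mul_mem hx ((zpowers c).inv_mem hyA)) h1 with h2 | h2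
  · left
    exact mul_inv_eq_one.1 h2
  · right
    have h3 : x = z * y := mul_inv_eq_iff_eq_mul.1 h2
    rw [h3, ← hyy]
    have h4 : y * y * (y * y) = 1 := by rw [hyy]; exact H.hz2
    rw [eq_inv_iff_mul_eq_one]
    calc y * y * y * y = y * y * (y * y) := by group
      _ = 1 := h4

theorem Ctx.conj_y (H : Ctx z c (m' + 1)) (g : X) :
    g * c ^ 2 ^ m' * g⁻¹ = c ^ 2 ^ m' ∨ g * c ^ 2 ^ m' * g⁻¹ = (c ^ 2 ^ m')⁻¹ := by
  apply H.sq_eq (H.conj_mem H.y_mem g)
  have hyy : c ^ 2 ^ m' * c ^ 2 ^ m' = z := H.y_sq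
  calc (g * c ^ 2 ^ m' * g⁻¹) * (g * c ^ 2 ^ m' * g⁻¹) = g * (c ^ 2 ^ m' * c ^ 2 ^ m') * g⁻¹ := by
        group
    _ = z := by
        rw [hyy, H.z_comm g]
        group

/-- Arithmetic: `k ≡ 1 (mod 4)` and `2^(m+1) ∣ k² - 1` imply `2^m ∣ k - 1`. -/
theorem dvd_sub_one {k : ℤ} {m : ℕ} (h4 : (4 : ℤ) ∣ k - 1) (h : (2 : ℤ) ^ (m + 1) ∣ k * k - 1) :
    (2 : ℤ) ^ m ∣ k - 1 := by
  obtain ⟨l, hl⟩ := h4
  have hk : k = 4 * l + 1 := by linarith
  subst hk
  have h1 : (4 * l + 1) * (4 * l + 1) - 1 = 2 * ((4 * l + 1 - 1) * (2 * l + 1)) := by ring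
  rw [h1, pow_succ'] at h
  have h2 : (2 : ℤ) ^ m ∣ (4 * l + 1 - 1) * (2 * l + 1) := (mul_dvd_mul_iff_left (by norm_num)).1 h
  have hcop : IsCoprime ((2 : ℤ) ^ m) (2 * l + 1) := by
    apply IsCoprime.pow_left
    exact ⟨-l, 1, by ring⟩
  exact hcop.dvd_of_dvd_mul_right h2

/-- **Step 4**: the centralizer of the element of order four is `⟨c⟩`. -/
theorem Ctx.mem_of_conj_y (H : Ctx z c (m' + 1)) {g : X} (hg : g * c ^ 2 ^ m' * g⁻¹ = c ^ 2 ^ m') :
    g ∈ zpowers c := by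
  by_contra hgA
  set y := c ^ 2 ^ m' with hy
  set A := zpowers c with hA
  have hyA : y ∈ A := H.y_mem
  have hyy : y * y = z := H.y_sq
  have hzA : z ∈ A := H.z_mem
  have hcomgy : Commute g y := by
    have : g * y = y * g := by
      calc g * y = (g * y * g⁻¹) * g := by group
        _ = y * g := by rw [hg]
    exact this
  -- a power of `g` outside `A` with square inside
  obtain ⟨g₁, hg₁y, hg₁A, hg₁2⟩ : ∃ g₁ : X, Commute g₁ y ∧ g₁ ∉ A ∧ g₁ * g₁ ∈ A := by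
    classical
    obtain ⟨n, hn⟩ := (IsPGroup.iff_orderOf.1 H.hX) g
    have hex : ∃ i : ℕ, g ^ 2 ^ i ∈ A := ⟨n, by rw [← hn, pow_orderOf_eq_one]; exact A.one_mem⟩
    have h0 : Nat.find hex ≠ 0 := by
      intro h
      have := Nat.find_spec hex
      rw [h] at this
      simp only [pow_zero, pow_one] at this
      exact hgA this
    obtain ⟨i', hi'⟩ : ∃ i', Nat.find hex = i' + 1 := ⟨Nat.find hex - 1, by omega⟩
    refine ⟨g ^ 2 ^ i', hcomgy.pow_left _, ?_, ?_⟩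
    · exact Nat.find_min hex (by omega)
    · have := Nat.find_spec hex
      rw [hi', pow_succ', mul_comm, pow_mul, pow_two] at this
      exact this
  -- the action on `c`
  have hcA : c ∈ A := mem_zpowers c
  obtain ⟨k, hk⟩ := mem_zpowers_iff.1 (H.conj_mem hcA g₁)
  have hconjz : ∀ i : ℤ, g₁ * c ^ i * g₁⁻¹ = (c ^ k) ^ i := by
    intro i
    rw [hk, conj_zpow]
  -- `k ≡ 1` modulo `4`
  have hyord : orderOf y = 2 ^ 2 := by
    apply orderOf_eq_prime_pow
    · rw [pow_one, pow_two, hyy]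
      exact H.hz1
    · have h1 : y ^ 2 ^ (1 + 1) = (y * y) * (y * y) := by
        rw [show 2 ^ (1 + 1) = 2 + 2 from rfl, pow_add, pow_two]
      rw [h1, hyy, H.hz2]
  have h4 : (4 : ℤ) ∣ k - 1 := by
    have h1 : g₁ * y * g₁⁻¹ = y := by
      rw [hg₁y.eq]
      group
    have h2 : g₁ * y * g₁⁻¹ = y ^ k := by
      rw [hy, ← zpow_natCast c (2 ^ m'), hconjz]
      rw [← zpow_mul, ← zpow_mul, mul_comm]
    have h3 : y ^ (k - 1) = 1 := by
      rw [zpow_sub, zpow_one, ← h2, h1]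
      group
    have h5 := orderOf_dvd_iff_zpow_eq_one.2 h3
    rw [hyord] at h5
    exact_mod_cast h5
  -- `k² ≡ 1`
  have hg₁2c : Commute (g₁ * g₁) c := by
    obtain ⟨a, ha⟩ := mem_zpowers_iff.1 hg₁2
    rw [← ha]
    exact (Commute.refl c).zpow_left a
  have hk2 : (2 : ℤ) ^ (m' + 1 + 1) ∣ k * k - 1 := by
    have h1 : c ^ (k * k) = c := by
      have h2 : (g₁ * g₁) * c * (g₁ * g₁)⁻¹ = c := by
        rw [hg₁2c.eq]
        group
      have h3 : (g₁ * g₁) * c * (g₁ * g₁)⁻¹ = g₁ * (g₁ * c * g₁⁻¹) * g₁⁻¹ := by group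
      rw [h3, ← hk, hconjz, ← zpow_mul] at h2
      exact h2
    have h3 : c ^ (k * k - 1) = 1 := by
      rw [zpow_sub, zpow_one, h1]
      group
    have h5 := orderOf_dvd_iff_zpow_eq_one.2 h3
    rw [H.hN] at h5
    exact_mod_cast h5
  have hdvd := dvd_sub_one h4 hk2
  obtain ⟨j, hj⟩ := hdvd
  have hcpow : c ^ ((2 : ℤ) ^ (m' + 1)) = z := by
    rw [H.z_eq]
    norm_cast
  have hcz : c ^ (k - 1) = z ^ j := by
    rw [hj, zpow_mul, hcpow]
  have hjodd : Odd j := by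
    rcases Int.even_or_odd j with hje | hjo
    · exfalso
      apply hg₁A
      apply H.mem_of_commute
      have h1 : c ^ (k - 1) = 1 := by rw [hcz, H.z_pow_even hje]
      have h2 : c ^ k = c := by
        have : k = (k - 1) + 1 := by ring
        rw [this, zpow_add, h1, one_mul, zpow_one]
      have h3 : g₁ * c * g₁⁻¹ = c := by rw [← hk, h2]
      show g₁ * c = c * g₁
      calc g₁ * c = (g₁ * c * g₁⁻¹) * g₁ := by group
        _ = c * g₁ := by rw [h3]
    · exact hjo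
  have hact : g₁ * c * g₁⁻¹ = c * z := by
    have : k = 1 + (k - 1) := by ring
    rw [← hk, this, zpow_add, zpow_one, hcz, H.z_ne_one_pow hjodd]
  -- `m'` is positive
  have hm' : m' ≠ 0 := by
    rintro rfl
    rw [hj] at h4
    simp only [zero_add, pow_one] at h4
    obtain ⟨j', rfl⟩ := hjodd
    omega
  have hzz : z⁻¹ = z := inv_eq_of_mul_eq_one_left H.hz2
  have hact' : g₁⁻¹ * c * g₁ = c * z := by
    have h1 : c = g₁⁻¹ * (c * z) * g₁ := by
      rw [← hact]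
      group
    have h2 : g₁⁻¹ * (c * z) * g₁ = (g₁⁻¹ * c * g₁) * z := by
      have := H.z_comm g₁
      calc g₁⁻¹ * (c * z) * g₁ = g₁⁻¹ * c * (z * g₁) := by group
        _ = g₁⁻¹ * c * (g₁ * z) := by rw [this]
        _ = _ := by group
    rw [h2] at h1
    calc g₁⁻¹ * c * g₁ = (g₁⁻¹ * c * g₁) * (z * z) := by rw [H.hz2, mul_one]
      _ = ((g₁⁻¹ * c * g₁) * z) * z := by group
      _ = c * z := by rw [← h1]
  have hzcomm : ∀ u : X, Commute u z := fun u => H.z_comm u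
  have hconjz' : ∀ i : ℤ, g₁⁻¹ * c ^ i * g₁ = c ^ i * z ^ i := by
    intro i
    have h1 : g₁⁻¹ * c ^ i * g₁ = (g₁⁻¹ * c * g₁⁻¹⁻¹) ^ i := by
      rw [conj_zpow]
      simp
    rw [h1]
    simp only [inv_inv]
    rw [hact', (hzcomm c).mul_zpow]
  -- the square of `g₁` is an even power of `c`
  obtain ⟨a, ha⟩ := mem_zpowers_iff.1 hg₁2
  have haeven : Even a := by
    rcases Int.even_or_odd a with h | h
    · exact h
    · exfalso
      have h1 : g₁⁻¹ * c ^ a * g₁ = c ^ a := by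
        rw [ha]
        group
      rw [hconjz' a, H.z_ne_one_pow h] at h1
      exact H.hz1 (mul_left_cancel (a := c ^ a) (by rw [h1, mul_one]))
  obtain ⟨b, hb⟩ := haeven
  -- the involution
  have hcy : Commute c y := (Commute.refl c).pow_right _
  have hff : (g₁ * c ^ (-b)) * (g₁ * c ^ (-b)) = z ^ (-b) := by
    have h1 : (g₁ * c ^ (-b)) * (g₁ * c ^ (-b)) =
        (g₁ * g₁) * (g₁⁻¹ * c ^ (-b) * g₁) * c ^ (-b) := by group
    rw [h1, hconjz' (-b), ← ha, hb]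
    have h2 : c ^ (b + b) * (c ^ (-b) * z ^ (-b)) * c ^ (-b) =
        (c ^ (b + b) * c ^ (-b)) * (z ^ (-b) * c ^ (-b)) := by group
    rw [h2, ((hzcomm _).zpow_right _).symm.eq]
    have h4 : c ^ (b + b) * c ^ (-b) * c ^ (-b) = 1 := by
      rw [← zpow_add, ← zpow_add]
      have h5 : b + b + -b + -b = 0 := by ring
      rw [h5, zpow_zero]
    calc c ^ (b + b) * c ^ (-b) * (c ^ (-b) * z ^ (-b))
        = (c ^ (b + b) * c ^ (-b) * c ^ (-b)) * z ^ (-b) := by simp only [mul_assoc]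
      _ = z ^ (-b) := by rw [h4, one_mul]
  obtain ⟨e, a₀, ha₀, he, heA, hee⟩ : ∃ e a₀ : X, a₀ ∈ A ∧ e = g₁ * a₀ ∧ e ∉ A ∧ e * e = 1 := by
    have hbm : c ^ (-b) ∈ A := A.zpow_mem hcA _
    rcases Int.even_or_odd b with hbe | hbo
    · refine ⟨g₁ * c ^ (-b), c ^ (-b), hbm, rfl, ?_, ?_⟩
      · intro h
        apply hg₁A
        have : g₁ = (g₁ * c ^ (-b)) * (c ^ (-b))⁻¹ := by group
        rw [this]
        exact A.mul_mem h (A.inv_mem hbm)
      · rw [hff, H.z_pow_even hbe.neg]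
    · refine ⟨g₁ * c ^ (-b) * y, c ^ (-b) * y, A.mul_mem hbm hyA, by group, ?_, ?_⟩
      · intro h
        apply hg₁A
        have : g₁ = (g₁ * c ^ (-b) * y) * (c ^ (-b) * y)⁻¹ := by group
        rw [this]
        exact A.mul_mem h (A.inv_mem (A.mul_mem hbm hyA))
      · have hfy : Commute (g₁ * c ^ (-b)) y := hg₁y.mul_left (hcy.zpow_left _)
        have h1 : (g₁ * c ^ (-b) * y) * (g₁ * c ^ (-b) * y) =
            ((g₁ * c ^ (-b)) * (g₁ * c ^ (-b))) * (y * y) := hfy.symm.mul_mul_mul_comm _ _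
        rw [h1, hff, hyy, H.z_ne_one_pow hbo.neg, H.hz2]
  have heact : e * c * e⁻¹ = c * z := by
    have h1 : a₀ * c * a₀⁻¹ = c := by
      rw [comm_of_mem ha₀ hcA]
      group
    rw [he]
    calc g₁ * a₀ * c * (g₁ * a₀)⁻¹ = g₁ * (a₀ * c * a₀⁻¹) * g₁⁻¹ := by group
      _ = c * z := by rw [h1, hact]
  have heinv : e⁻¹ = e := inv_eq_of_mul_eq_one_left hee
  have he1 : e ≠ 1 := fun h => heA (h ▸ A.one_mem)
  have hez : e ≠ z := fun h => heA (h ▸ hzA)
  obtain ⟨h, hh1, hh2⟩ := H.hK e hee he1 hez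
  set e' := h * e * h⁻¹ with he'
  -- the exponent of `h⁻¹ c h` is odd
  obtain ⟨r, hr⟩ := mem_zpowers_iff.1 (H.conj_mem hcA h⁻¹)
  have hrodd : Odd r := by
    rcases Int.even_or_odd r with hre | hro
    · exfalso
      obtain ⟨r', hr'⟩ := hre
      have h1 : (h⁻¹ * c * h⁻¹⁻¹) ^ ((2 : ℤ) ^ (m' + 1)) = z := by
        rw [conj_zpow, hcpow, (hzcomm h⁻¹).eq]
        group
      rw [← hr, hr', ← zpow_mul] at h1
      have h2 : (r' + r') * (2 : ℤ) ^ (m' + 1) = 2 ^ (m' + 1 + 1) * r' := by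
        rw [pow_succ (2 : ℤ) (m' + 1)]
        ring
      rw [h2, zpow_mul] at h1
      have h3 : c ^ ((2 : ℤ) ^ (m' + 1 + 1)) = 1 := by
        have := H.c_pow
        exact_mod_cast this
      rw [h3, one_zpow] at h1
      exact H.hz1 h1.symm
    · exact hro
  have hrconj : h * c ^ r * h⁻¹ = c := by
    rw [hr]
    group
  have he'act : e' * c * e'⁻¹ = c * z := by
    have h1 : e * c ^ r * e⁻¹ = (c * z) ^ r := by
      rw [← conj_zpow, heact]
    have h2 : e' * c * e'⁻¹ = h * (e * (h⁻¹ * c * h) * e⁻¹) * h⁻¹ := by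
      rw [he']
      group
    have h3 : h⁻¹ * c * h = c ^ r := by
      rw [hr]
      group
    rw [h2, h3, h1, (hzcomm c).mul_zpow, H.z_ne_one_pow hrodd]
    calc h * (c ^ r * z) * h⁻¹ = h * c ^ r * (z * h⁻¹) := by group
      _ = h * c ^ r * (h⁻¹ * z) := by rw [(hzcomm h⁻¹).eq]
      _ = (h * c ^ r * h⁻¹) * z := by group
      _ = c * z := by rw [hrconj]
  -- `e' e⁻¹` centralizes `c`
  have heact' : e⁻¹ * c * e = c * z := by
    rw [heinv]
    calc e * c * e = e * c * e⁻¹ := by rw [heinv]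
      _ = c * z := heact
  set a₁ := e' * e⁻¹ with ha₁
  have ha₁A : a₁ ∈ A := by
    apply H.mem_of_commute
    show a₁ * c = c * a₁
    have h1 : a₁ * c * a₁⁻¹ = c := by
      have h2 : a₁ * c * a₁⁻¹ = e' * (e⁻¹ * c * e) * e'⁻¹ := by
        rw [ha₁]
        group
      rw [h2, heact']
      have h3 : e' * (c * z) * e'⁻¹ = (e' * c * e'⁻¹) * z := by
        calc e' * (c * z) * e'⁻¹ = e' * c * (z * e'⁻¹) := by group
          _ = e' * c * (e'⁻¹ * z) := by rw [(hzcomm e'⁻¹).eq]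
          _ = _ := by group
      rw [h3, he'act, mul_assoc, H.hz2, mul_one]
    calc a₁ * c = (a₁ * c * a₁⁻¹) * a₁ := by group
      _ = c * a₁ := by rw [h1]
  have he'e : e' = a₁ * e := by
    rw [ha₁]
    group
  have he'2 : e' * e' = 1 := by
    rw [he']
    calc h * e * h⁻¹ * (h * e * h⁻¹) = h * (e * e) * h⁻¹ := by group
      _ = 1 := by rw [hee]; group
  obtain ⟨i, hi⟩ := mem_zpowers_iff.1 ha₁A
  have hconja₁ : e * a₁ * e⁻¹ = a₁ * z ^ i := by
    rw [← hi, ← conj_zpow, heact, (hzcomm c).mul_zpow]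
  have h5 : a₁ * a₁ * z ^ i = 1 := by
    have h6 : e' * e' = a₁ * (e * a₁ * e⁻¹) * (e * e) := by
      rw [he'e]
      group
    rw [h6, hee, mul_one, hconja₁, ← mul_assoc] at he'2
    exact he'2
  rcases Int.even_or_odd i with hie | hio
  · rw [H.z_pow_even hie, mul_one] at h5
    rcases H.inv2' ha₁A h5 with h6 | h6
    · apply hh1
      rw [he'e, h6, one_mul]
    · apply hh2
      rw [he'e, h6, H.z_comm e]
  · exfalso
    rw [H.z_ne_one_pow hio] at h5
    have h6 : a₁ * a₁ = z := by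
      have h7 : a₁ * a₁ = (a₁ * a₁ * z) * z⁻¹ := by group
      rw [h7, h5, one_mul, hzz]
    have hpow : ∃ w : ℤ, Even w ∧ c ^ w = a₁ := by
      have hevm : Even ((2 : ℤ) ^ m') := by
        apply Even.pow_of_ne_zero _ hm'
        exact even_two
      rcases H.sq_eq ha₁A h6 with h7 | h7
      · refine ⟨(2 : ℤ) ^ m', hevm, ?_⟩
        rw [h7]
        norm_cast
      · refine ⟨-(2 : ℤ) ^ m', hevm.neg, ?_⟩
        rw [h7, zpow_neg]
        norm_cast
    obtain ⟨w, hw, hwa⟩ := hpow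
    have h8 : c ^ (i - w) = 1 := by
      rw [zpow_sub, hi, hwa]
      group
    have h9 := orderOf_dvd_iff_zpow_eq_one.2 h8
    rw [H.hN] at h9
    have h10 : (2 : ℤ) ∣ i - w := by
      refine Dvd.dvd.trans ?_ h9
      push_cast
      exact dvd_pow_self 2 (by omega)
    have h11 : Even i := by
      have h12 : Even (i - w) := even_iff_two_dvd.2 h10
      have : i = (i - w) + w := by ring
      rw [this]
      exact h12.add hw
    exact (Int.not_even_iff_odd.2 hio) h11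

end Ctx

/-- **The structure theorem.** -/
theorem main (hX : IsPGroup 2 X) (z : X) (hzc : z ∈ center X) (hz1 : z ≠ 1) (hz2 : z * z = 1)
    (hK : ∀ e : X, e * e = 1 → e ≠ 1 → e ≠ z → ∃ g, g * e * g⁻¹ ≠ e ∧ g * e * g⁻¹ ≠ e * z)
    (hnc : ¬ IsCyclic X) :
    ∃ (c y : X), (zpowers c).Normal ∧ (∃ t, t ∉ zpowers c) ∧
      (∀ u v, u ∉ zpowers c → v ∉ zpowers c → u * v ∈ zpowers c) ∧ y ∈ zpowers c ∧ y * y = z ∧
      (∀ t, t ∉ zpowers c → t * y * t⁻¹ = y⁻¹) := by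
  obtain ⟨c, hcn, hmax⟩ := exists_max_normal_zpowers (X := X)
  obtain ⟨n, hn⟩ := (IsPGroup.iff_orderOf.1 hX) c
  have hzn : (zpowers z).Normal := by
    apply zpowers_normal_of_conj_mem
    intro g
    have h1 : g * z * g⁻¹ = z := by
      rw [(Subgroup.mem_center_iff.1 hzc) g]
      group
    rw [h1]
    exact mem_zpowers z
  have hn0 : n ≠ 0 := by
    rintro rfl
    have h1 := hmax z hzn
    rw [hn, pow_zero] at h1
    have h2 : orderOf z = 1 := le_antisymm h1 (orderOf_pos z)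
    exact hz1 (orderOf_eq_one_iff.1 h2)
  obtain ⟨m, rfl⟩ : ∃ m, n = m + 1 := ⟨n - 1, by omega⟩
  have H : Ctx z c m := ⟨hX, hzc, hz1, hz2, hK, hcn, hmax, hn⟩
  have hm := H.m_ne_zero hnc
  obtain ⟨m', rfl⟩ : ∃ m', m = m' + 1 := ⟨m - 1, by omega⟩
  have hnotin : ∀ t, t ∉ zpowers c → t * c ^ 2 ^ m' * t⁻¹ = (c ^ 2 ^ m')⁻¹ := by
    intro t ht
    rcases H.conj_y t with h | h
    · exact absurd (H.mem_of_conj_y h) ht
    · exact h
  refine ⟨c, c ^ 2 ^ m', hcn, ?_, ?_, H.y_mem, H.y_sq, hnotin⟩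
  · by_contra hall
    push Not at hall
    exact hnc ⟨⟨c, hall⟩⟩
  · intro u v hu hv
    apply H.mem_of_conj_y
    have h1 : u * v * c ^ 2 ^ m' * (u * v)⁻¹ = u * (v * c ^ 2 ^ m' * v⁻¹) * u⁻¹ := by group
    rw [h1, hnotin v hv]
    have h2 : u * (c ^ 2 ^ m')⁻¹ * u⁻¹ = (u * c ^ 2 ^ m' * u⁻¹)⁻¹ := by group
    rw [h2, hnotin u hu, inv_inv]

end Cfsg.Agent.Lib.Baer.GT
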