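import Mathlib
import Cfsg.Agent.Lib.Baer.GT
import Cfsg.Agent.Lib.Baer.FieldStep

/-!
# Irreducible `2`-groups all of whose maximal subgroups are irreducible

Such a group is cyclic, or the module has at most `q²` elements.
-/

set_option autoImplicit false

namespace Cfsg.Agent.Lib.Baer.TwoOrbit

open Subgroup

universe v

variable {V : Type v} [CommGroup V]

/-- `W` is invariant under `M`. -/
def Inv (W : Subgroup V) (M : Subgroup (MulAut V)) : Prop := ∀ a ∈ M, ∀ w ∈ W, a w ∈ W

/-- `M` acts irreducibly. -/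
def Irr (M : Subgroup (MulAut V)) : Prop := ∀ W : Subgroup V, Inv W M → W = ⊥ ∨ W = ⊤

/-- `M` has index two in `P`, in the form used here. -/
def IdxTwo {A : Type*} [Group A] (M P : Subgroup A) : Prop :=
  M ≤ P ∧ (∃ t ∈ P, t ∉ M) ∧ ∀ u ∈ P, ∀ v ∈ P, u ∉ M → v ∉ M → u * v ∈ M

/-- Fixed points. -/
def fixW (a : MulAut V) : Subgroup V where
  carrier := {v | a v = v}
  one_mem' := map_one a
  mul_mem' := by
    intro x y hx hy
    show a (x * y) = x * y
    rw [map_mul, show a x = x from hx, show a y = y from hy]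
  inv_mem' := by
    intro x hx
    show a x⁻¹ = x⁻¹
    rw [map_inv, show a x = x from hx]

theorem mem_fixW {a : MulAut V} {v : V} : v ∈ fixW a ↔ a v = v := Iff.rfl

theorem apply_apply_of_sq {e : MulAut V} (he2 : e * e = 1) (v : V) : e (e v) = v := by
  have := congrArg (fun a : MulAut V => a v) he2
  simpa using this

/-- An involution commuting with an irreducible group is `-1`. -/
theorem neg_of_irr {M : Subgroup (MulAut V)} (hM : Irr M) (e : MulAut V) (he2 : e * e = 1)
    (he1 : e ≠ 1) (hcomm : ∀ g ∈ M, g * e = e * g) : ∀ v, e v = v⁻¹ := by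
  have hinv : Inv (fixW e) M := by
    intro a ha w hw
    rw [mem_fixW] at hw ⊢
    have h1 := congrArg (fun b : MulAut V => b w) (hcomm a ha)
    simp only [MulAut.mul_apply] at h1
    rw [← h1, hw]
  rcases hM _ hinv with h | h
  · intro v
    have h1 : v * e v ∈ fixW e := by
      rw [mem_fixW, map_mul, apply_apply_of_sq he2, mul_comm]
    rw [h, Subgroup.mem_bot] at h1
    exact eq_inv_of_mul_eq_one_right h1
  · exfalso
    apply he1
    ext v
    have h1 : v ∈ fixW e := by rw [h]; trivial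
    exact h1

/-- The linear form of an automorphism. -/
noncomputable def linHom (q : ℕ) [Module (ZMod q) (Additive V)] :
    MulAut V →* Module.End (ZMod q) (Additive V) where
  toFun a := AddMonoidHom.toZModLinearMap q (MonoidHom.toAdditive a.toMonoidHom)
  map_one' := rfl
  map_mul' _ _ := rfl

theorem linHom_apply (q : ℕ) [Module (ZMod q) (Additive V)] (a : MulAut V) (v : Additive V) :
    linHom q a v = Additive.ofMul (a v.toMul) := rfl

/-- The field bound in terms of automorphisms. -/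
theorem field_bound {q : ℕ} [hq : Fact q.Prime] (hodd : q ≠ 2) [Finite V] [Nontrivial V]
    [Module (ZMod q) (Additive V)] (c y t : MulAut V) {m k r : ℕ} (hcm : c ^ 2 ^ m = 1)
    (hirr : ∀ W : Subgroup V, (∀ w ∈ W, c w ∈ W) → W = ⊥ ∨ W = ⊤) (hk : c ^ k = t * c * t⁻¹)
    (hkk : c ^ (k * k) = c) (hr : c ^ r = y) (hyy : ∀ v, y (y v) = v⁻¹)
    (hty : t * y * t⁻¹ = y⁻¹) : Nat.card V ≤ q ^ 2 := by
  let ι : MulAut V →* Module.End (ZMod q) (Additive V) := linHom q
  have hιv : ∀ (a : MulAut V) (v : Additive V), ι a v = Additive.ofMul (a v.toMul) := fun _ _ => rfl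
  have hcard : Nat.card V = Nat.card (Additive V) := Nat.card_congr Additive.ofMul
  rw [hcard]
  have hu : (((ι.toHomUnits t)⁻¹ : (Module.End (ZMod q) (Additive V))ˣ) :
      Module.End (ZMod q) (Additive V)) = ι t⁻¹ := by
    rw [← map_inv, MonoidHom.coe_toHomUnits]
  refine FieldStep.card_le_of_End hodd (ι c) (ι y) (ι.toHomUnits t) (m := m) (k := k) (r := r)
    ?_ ?_ ?_ ?_ ?_ ?_ ?_
  · rw [← map_pow, hcm, map_one]
  · intro W hW
    let W₀ : Subgroup V :=
      { carrier := {v | Additive.ofMul v ∈ W}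
        one_mem' := W.zero_mem
        mul_mem' := fun {a b} ha hb => W.add_mem ha hb
        inv_mem' := fun {a} ha => W.neg_mem ha }
    have hW₀ : ∀ w ∈ W₀, c w ∈ W₀ := by
      intro w hw
      exact hW (Additive.ofMul w) hw
    rcases hirr W₀ hW₀ with h | h
    · left
      rw [eq_bot_iff]
      intro v hv
      have h1 : v.toMul ∈ W₀ := hv
      rw [h, Subgroup.mem_bot] at h1
      rw [Submodule.mem_bot]
      exact congrArg Additive.ofMul h1
    · right
      rw [eq_top_iff]
      intro v _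
      have h1 : v.toMul ∈ W₀ := by rw [h]; trivial
      exact h1
  · rw [hu, MonoidHom.coe_toHomUnits, ← map_mul, ← map_mul, ← hk, map_pow]
  · rw [← map_pow, hkk]
  · rw [← map_pow, hr]
  · ext v
    show ι y (ι y v) = -v
    rw [hιv, hιv]
    show Additive.ofMul (y (y v.toMul)) = -v
    rw [hyy]
    rfl
  · rw [hu, MonoidHom.coe_toHomUnits, ← map_mul, ← map_mul, hty]
    ext v
    rw [hιv]
    show Additive.ofMul (y⁻¹ v.toMul) = -(Additive.ofMul (y v.toMul))
    have h1 : y⁻¹ v.toMul = (y v.toMul)⁻¹ := by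
      have h2 := hyy (y⁻¹ v.toMul)
      rw [MulAut.apply_inv_self] at h2
      rw [h2, inv_inv]
    rw [h1]
    rfl

/-- **The final lemma.** -/
theorem final {q : ℕ} [hq : Fact q.Prime] (hodd : q ≠ 2) [Finite V] [Nontrivial V]
    (hV : IsPGroup q V) (P : Subgroup (MulAut V)) (hP : IsPGroup 2 P) (hirr : Irr P)
    (hidx : ∀ M, IdxTwo M P → Irr M) : IsCyclic P ∨ Nat.card V ≤ q ^ 2 := by
  classical
  by_cases hc : IsCyclic P
  · exact Or.inl hc
  right
  haveI : Finite (MulAut V) :=
    Finite.of_injective (fun a : MulAut V => (a : V → V)) DFunLike.coe_injective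
  haveI : Fact (Nat.Prime 2) := ⟨Nat.prime_two⟩
  -- elementary abelian
  have hqV : ∀ v : V, v ^ q = 1 := by
    have hW : (powMonoidHom q : V →* V).ker = ⊥ ∨ (powMonoidHom q : V →* V).ker = ⊤ := by
      apply hirr
      intro a _ w hw
      rw [MonoidHom.mem_ker, powMonoidHom_apply] at hw ⊢
      rw [← map_pow, hw, map_one]
    rcases hW with h | h
    · exfalso
      have hd : q ∣ Nat.card V := by
        rcases hV.card_eq_or_dvd with h1 | h1
        · exfalso
          rw [Nat.card_eq_one_iff_unique] at h1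
          exact not_subsingleton V h1.1
        · exact h1
      obtain ⟨x, hx⟩ := exists_prime_orderOf_dvd_card' q hd
      have h1 : x ∈ (powMonoidHom q : V →* V).ker := by
        rw [MonoidHom.mem_ker, powMonoidHom_apply, ← hx, pow_orderOf_eq_one]
      rw [h, Subgroup.mem_bot] at h1
      rw [h1, orderOf_one] at hx
      exact hq.out.one_lt.ne hx
    · intro v
      have h1 : v ∈ (powMonoidHom q : V →* V).ker := by rw [h]; trivial
      simpa using h1
  set X := (P : Subgroup (MulAut V)) with hXdef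
  have hX : IsPGroup 2 X := hP
  haveI : Nontrivial X := by
    by_contra hnt
    rw [not_nontrivial_iff_subsingleton] at hnt
    exact hc isCyclic_of_subsingleton
  -- the central involution
  have hCn := hX.center_nontrivial
  have hd2 : 2 ∣ Nat.card (center X) := by
    rcases (hX.to_subgroup (center X)).card_eq_or_dvd with h1 | h1
    · exfalso
      rw [Nat.card_eq_one_iff_unique] at h1
      exact not_subsingleton _ h1.1
    · exact h1
  obtain ⟨z', hz'⟩ := exists_prime_orderOf_dvd_card' 2 hd2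
  set z : X := (z' : X) with hz
  have hzc : z ∈ center X := z'.2
  have hord : orderOf z = 2 := by rw [hz, Subgroup.orderOf_coe, hz']
  have hz2 : z * z = 1 := by
    rw [← pow_two, ← hord, pow_orderOf_eq_one]
  have hz1 : z ≠ 1 := by
    intro h
    rw [h, orderOf_one] at hord
    omega
  have hzcomm : ∀ g : X, g * z = z * g := fun g => (Subgroup.mem_center_iff.1 hzc g)
  have hzv : ∀ v, (z : MulAut V) v = v⁻¹ := by
    apply neg_of_irr hirr (z : MulAut V)
    · exact congrArg Subtype.val hz2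
    · exact fun h => hz1 (Subtype.ext h)
    · intro g hg
      exact congrArg Subtype.val (hzcomm ⟨g, hg⟩)
  -- the class hypothesis
  have hK : ∀ e : X, e * e = 1 → e ≠ 1 → e ≠ z → ∃ g, g * e * g⁻¹ ≠ e ∧ g * e * g⁻¹ ≠ e * z := by
    intro e he2 he1 hez
    by_contra hno
    push Not at hno
    set Mx : Subgroup X := centralizer ({e} : Set X) with hMx
    have hmemMx : ∀ g : X, g ∈ Mx ↔ g * e * g⁻¹ = e := by
      intro g
      rw [hMx, Subgroup.mem_centralizer_singleton_iff, mul_inv_eq_iff_eq_mul]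
    have hIrrM : Irr (Mx.map P.subtype) := by
      by_cases htop : Mx = ⊤
      · rw [htop, ← MonoidHom.range_eq_map, Subgroup.range_subtype]
        exact hirr
      · apply hidx
        refine ⟨Subgroup.map_subtype_le _, ?_, ?_⟩
        · obtain ⟨t, ht⟩ : ∃ t, t ∉ Mx := by
            by_contra hall
            push Not at hall
            exact htop (eq_top_iff.2 fun a _ => hall a)
          refine ⟨t, t.2, ?_⟩
          rintro ⟨x, hx, hxt⟩
          exact ht ((Subtype.ext hxt : x = t) ▸ hx)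
        · intro u hu v hv hu' hv'
          have hu'' : (⟨u, hu⟩ : X) ∉ Mx := fun h => hu' ⟨_, h, rfl⟩
          have hv'' : (⟨v, hv⟩ : X) ∉ Mx := fun h => hv' ⟨_, h, rfl⟩
          have h1 := hno ⟨u, hu⟩ (fun h => hu'' ((hmemMx _).2 h))
          have h2 := hno ⟨v, hv⟩ (fun h => hv'' ((hmemMx _).2 h))
          refine ⟨⟨u, hu⟩ * ⟨v, hv⟩, (hmemMx _).2 ?_, rfl⟩
          have h3 : (⟨u, hu⟩ * ⟨v, hv⟩ : X) * e * (⟨u, hu⟩ * ⟨v, hv⟩ : X)⁻¹ =
              ⟨u, hu⟩ * (⟨v, hv⟩ * e * (⟨v, hv⟩ : X)⁻¹) * (⟨u, hu⟩ : X)⁻¹ := by group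
          rw [h3, h2]
          have h4 : (⟨u, hu⟩ : X) * (e * z) * (⟨u, hu⟩ : X)⁻¹ =
              (⟨u, hu⟩ * e * (⟨u, hu⟩ : X)⁻¹) * z := by
            calc (⟨u, hu⟩ : X) * (e * z) * (⟨u, hu⟩ : X)⁻¹
                = ⟨u, hu⟩ * e * (z * (⟨u, hu⟩ : X)⁻¹) := by group
              _ = ⟨u, hu⟩ * e * ((⟨u, hu⟩ : X)⁻¹ * z) := by rw [hzcomm]
              _ = _ := by group
          rw [h4, h1, mul_assoc, hz2, mul_one]
    have hev : ∀ v, (e : MulAut V) v = v⁻¹ := by
      apply neg_of_irr hIrrM (e : MulAut V)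
      · exact congrArg Subtype.val he2
      · exact fun h => he1 (Subtype.ext h)
      · rintro _ ⟨g, hg, rfl⟩
        have h1 : g * e * g⁻¹ = e := (hmemMx g).1 hg
        have h2 : g * e = e * g := mul_inv_eq_iff_eq_mul.1 h1
        exact congrArg Subtype.val h2
    apply hez
    apply Subtype.ext
    ext v
    rw [hev, hzv]
  obtain ⟨c, y, hcn, ⟨t, ht⟩, hprod, hyA, hyy, hinv⟩ := GT.main hX z hzc hz1 hz2 hK hc
  -- the cyclic subgroup is irreducible
  have hIrrA : Irr ((zpowers c).map P.subtype) := by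
    apply hidx
    refine ⟨Subgroup.map_subtype_le _, ⟨t, t.2, ?_⟩, ?_⟩
    · rintro ⟨x, hx, hxt⟩
      exact ht ((Subtype.ext hxt : x = t) ▸ hx)
    · intro u hu v hv hu' hv'
      have hu'' : (⟨u, hu⟩ : X) ∉ zpowers c := fun h => hu' ⟨_, h, rfl⟩
      have hv'' : (⟨v, hv⟩ : X) ∉ zpowers c := fun h => hv' ⟨_, h, rfl⟩
      exact ⟨_, hprod _ _ hu'' hv'', rfl⟩
  -- the vector space
  letI hmod : Module (ZMod q) (Additive V) := AddCommGroup.zmodModule (n := q) (fun x => by
    show Additive.ofMul (x.toMul ^ q) = 0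
    rw [hqV]
    rfl)
  obtain ⟨m, hm⟩ := (IsPGroup.iff_orderOf.1 hX) c
  have hcm : c ^ 2 ^ m = 1 := by rw [← hm, pow_orderOf_eq_one]
  obtain ⟨k, hk⟩ := mem_powers_iff_mem_zpowers.2 (hcn.conj_mem c (mem_zpowers c) t)
  obtain ⟨r, hr⟩ := mem_powers_iff_mem_zpowers.2 hyA
  have hk' : c ^ k = t * c * t⁻¹ := hk
  have hr' : c ^ r = y := hr
  have hkk : c ^ (k * k) = c := by
    have h1 : (t * t) * c * (t * t)⁻¹ = c := by
      have h2 : t * t ∈ zpowers c := hprod t t ht ht
      rw [GT.comm_of_mem h2 (mem_zpowers c)]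
      group
    have h4 : (t * t) * c * (t * t)⁻¹ = t * (t * c * t⁻¹) * t⁻¹ := by group
    rw [h4, ← hk', ← conj_pow, ← hk', ← pow_mul] at h1
    exact h1
  refine field_bound hodd (c : MulAut V) (y : MulAut V) (t : MulAut V) (m := m) (k := k) (r := r)
    (congrArg Subtype.val hcm) ?_ (congrArg Subtype.val hk') (congrArg Subtype.val hkk)
    (congrArg Subtype.val hr') ?_ (congrArg Subtype.val (hinv t ht))
  · intro W hW
    apply hIrrA
    rintro _ ⟨x, hx, rfl⟩ w hw
    obtain ⟨n, rfl⟩ := mem_powers_iff_mem_zpowers.2 hx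
    have h1 : ∀ n : ℕ, ∀ w ∈ W, ((c ^ n : X) : MulAut V) w ∈ W := by
      intro n
      induction n with
      | zero => simp
      | succ n ih =>
        intro w hw
        rw [pow_succ]
        exact ih _ (hW _ hw)
    exact h1 n w hw
  · intro v
    have h1 : (y : MulAut V) ((y : MulAut V) v) = ((y * y : X) : MulAut V) v := rfl
    rw [h1, hyy, hzv]

end Cfsg.Agent.Lib.Baer.TwoOrbit
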