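import Mathlib
import Cfsg.Agent.Lib.ClassSize.Coprime

/-!
# `q`-Baer groups: the prime `p` is unique

If every `q`-element of `G` has a class of prime power size then the same prime serves for all of
them.
-/

set_option autoImplicit false

namespace Cfsg.Agent.Lib.Baer.Unique

open Subgroup Cfsg.Agent.Lib.ClassSize.Basic Cfsg.Agent.Lib.ClassSize.Coprime

universe u

variable {G : Type u} [Group G]

/-- `q`-elements. -/
def QE (q : ℕ) (x : G) : Prop := ∃ k : ℕ, orderOf x = q ^ k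

theorem qe_iff {q : ℕ} (hq : q.Prime) {x : G} : QE q x ↔ ∃ k : ℕ, x ^ q ^ k = 1 := by
  constructor
  · rintro ⟨k, hk⟩
    exact ⟨k, by rw [← hk, pow_orderOf_eq_one]⟩
  · rintro ⟨k, hk⟩
    obtain ⟨m, -, hm⟩ := (Nat.dvd_prime_pow hq).1 (orderOf_dvd_of_pow_eq_one hk)
    exact ⟨m, hm⟩

theorem QE.conj {q : ℕ} {x : G} (h : QE q x) (g : G) : QE q (g * x * g⁻¹) := by
  obtain ⟨k, hk⟩ := h
  refine ⟨k, ?_⟩
  rw [← hk]
  have h := orderOf_injective (MulAut.conj g).toMonoidHom (MulAut.conj g).injective x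
  simpa [MulAut.conj_apply] using h

theorem QE.inv {q : ℕ} {x : G} (h : QE q x) : QE q x⁻¹ := by
  obtain ⟨k, hk⟩ := h
  exact ⟨k, by rw [orderOf_inv, hk]⟩

theorem QE.mul {q : ℕ} (hq : q.Prime) {x y : G} (hc : Commute x y) (hx : QE q x) (hy : QE q y) :
    QE q (x * y) := by
  obtain ⟨k, hk⟩ := (qe_iff hq).1 hx
  obtain ⟨l, hl⟩ := (qe_iff hq).1 hy
  refine (qe_iff hq).2 ⟨k + l, ?_⟩
  rw [hc.mul_pow, pow_add]
  have h1 : x ^ (q ^ k * q ^ l) = 1 := by rw [pow_mul, hk, one_pow]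
  have h2 : y ^ (q ^ k * q ^ l) = 1 := by rw [mul_comm, pow_mul, hl, one_pow]
  rw [h1, h2, one_mul]

variable [Finite G] {q : ℕ} [hq : Fact q.Prime]

omit [Finite G] in
theorem cs_ne_one_of_not_center [Finite G] {x : G} (h : x ∉ center G) : cs x ≠ 1 := fun h1 =>
  h (index_cent_eq_one_iff.1 h1)

theorem exists_sylow_mem {x : G} (hx : QE q x) : ∃ P : Sylow q G, x ∈ (P : Subgroup G) := by
  obtain ⟨k, hk⟩ := (qe_iff hq.out).1 hx
  have hz : IsPGroup q (zpowers x) := by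
    rintro ⟨g, n, rfl⟩
    refine ⟨k, ?_⟩
    apply Subtype.ext
    simp only [Subgroup.coe_pow, Subgroup.coe_one]
    change ((x ^ n) ^ q ^ k) = 1
    rw [← zpow_natCast, ← zpow_mul, mul_comm, zpow_mul, zpow_natCast, hk, one_zpow]
  obtain ⟨P, hP⟩ := hz.exists_le_sylow
  exact ⟨P, hP (mem_zpowers x)⟩

/-- Sylow subgroups are conjugate, in element form. -/
theorem exists_conj_sylow_le_cent {l : ℕ} [Fact l.Prime] (P R : Sylow l G) {w : G}
    (h : (P : Subgroup G) ≤ cent w) : ∃ g : G, (R : Subgroup G) ≤ cent (g * w * g⁻¹) := by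
  obtain ⟨g, hg⟩ := MulAction.exists_smul_eq G P R
  refine ⟨g, ?_⟩
  rw [← hg]
  intro a ha
  rw [Sylow.coe_subgroup_smul, Subgroup.mem_pointwise_smul_iff_inv_smul_mem] at ha
  have h1 := h ha
  rw [mem_cent_iff] at h1 ⊢
  simp only [MulAut.smul_def, MulAut.conj_inv_apply] at h1
  calc g * w * g⁻¹ * a = g * (w * (g⁻¹ * a * g)) * g⁻¹ := by group
    _ = g * ((g⁻¹ * a * g) * w) * g⁻¹ := by rw [h1]
    _ = a * (g * w * g⁻¹) := by group

/-- A `q`-element commutes with any element whose class size is prime to `q` and to its own. -/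
theorem commute_of_coprime {x y : G} (hy : QE q y) (hnd : ¬ q ∣ cs x)
    (hc : Nat.Coprime (cs y) (cs x)) : Commute x y := by
  obtain ⟨P, hP⟩ := exists_sylow_le_cent hnd
  obtain ⟨R, hR⟩ := exists_sylow_mem hy
  obtain ⟨g, hg⟩ := exists_conj_sylow_le_cent P R hP
  have h1 : Commute (g * x * g⁻¹) y := mem_cent_iff.1 (hg hR)
  obtain ⟨c, hc1, hc2⟩ := exists_conj_eq hc g
  rw [hc2] at h1
  have h2 : y * c = c * y := mem_cent_iff.1 hc1
  have h3 : (c * x * c⁻¹) * y = y * (c * x * c⁻¹) := h1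
  have h4 : c⁻¹ * y * c = y := by rw [mul_assoc, h2]; group
  have h5 := congrArg (fun t => c⁻¹ * t * c) h3
  have h6 : c⁻¹ * (c * x * c⁻¹ * y) * c = x * (c⁻¹ * y * c) := by group
  have h7 : c⁻¹ * (y * (c * x * c⁻¹)) * c = (c⁻¹ * y * c) * x := by group
  rw [h6, h7, h4] at h5
  exact h5

theorem coprime_of_prime_pow {r s a b : ℕ} (hr : r.Prime) (hs : s.Prime) (hrs : r ≠ s) :
    Nat.Coprime (r ^ a) (s ^ b) :=
  Nat.Coprime.pow _ _ ((Nat.coprime_primes hr hs).2 hrs)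

theorem not_dvd_pow_of_ne {q r a : ℕ} (hq : q.Prime) (hr : r.Prime) (h : q ≠ r) : ¬ q ∣ r ^ a :=
  fun hd => h ((Nat.prime_dvd_prime_iff_eq hq hr).1 (hq.dvd_of_dvd_pow hd))

/-- Elements with classes of coprime prime power size commute. -/
theorem commute_of_ne {x y : G} (hx : QE q x) (hy : QE q y) {r s a b : ℕ} (hr : r.Prime)
    (hs : s.Prime) (hrs : r ≠ s) (hcx : cs x = r ^ a) (hcy : cs y = s ^ b) : Commute x y := by
  have hc : Nat.Coprime (cs x) (cs y) := by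
    rw [hcx, hcy]
    exact coprime_of_prime_pow hr hs hrs
  by_cases hrq : q = r
  · have hsq : q ≠ s := fun h => hrs (hrq.symm.trans h)
    have : ¬ q ∣ cs y := by
      rw [hcy]
      exact not_dvd_pow_of_ne hq.out hs hsq
    exact (commute_of_coprime hx this hc).symm
  · have : ¬ q ∣ cs x := by
      rw [hcx]
      exact not_dvd_pow_of_ne hq.out hr hrq
    exact commute_of_coprime hy this hc.symm

/-- With `cs (x * y) = cs y`, `x` commutes with its conjugates, given it commutes with those of `y`. -/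
theorem commute_conj_of_type {x y : G} (hc : Nat.Coprime (cs x) (cs y)) (ht : cs (x * y) = cs y)
    (hcom : ∀ h : G, Commute x (h * y * h⁻¹)) (g : G) : Commute x (g * x * g⁻¹) := by
  have hc' : Nat.Coprime (cs (x * y)) (cs x) := by
    rw [ht]
    exact hc.symm
  obtain ⟨c, hc1, hc2⟩ := exists_conj_eq hc' g
  rw [hc2]
  have h1 : (x * y) * c = c * (x * y) := mem_cent_iff.1 hc1
  have h2 : c * x * c⁻¹ = x * y * (c * y * c⁻¹)⁻¹ := by
    calc c * x * c⁻¹ = c * (x * y) * c⁻¹ * (c * y * c⁻¹)⁻¹ := by group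
      _ = (x * y) * c * c⁻¹ * (c * y * c⁻¹)⁻¹ := by rw [h1]
      _ = x * y * (c * y * c⁻¹)⁻¹ := by group
  rw [h2]
  have h3 : Commute x y := by
    have := hcom 1
    simpa using this
  exact ((Commute.refl x).mul_right h3).mul_right (hcom c).inv_right

/-- A noncentral `x` of type `(x, y)`: the prime of `y` is `q`. -/
theorem prime_eq_of_type {x y : G} (hx : QE q x) (hc : Nat.Coprime (cs x) (cs y))
    (ht : cs (x * y) = cs y) (hcom : ∀ h : G, Commute x (h * y * h⁻¹)) (hxc : x ∉ center G)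
    {s b : ℕ} (hs : s.Prime) (hcy : cs y = s ^ b) : s = q := by
  obtain ⟨g, hg⟩ := not_all_central hc ht hxc
  have hcomm := commute_conj_of_type hc ht hcom g
  have hz : QE q (x⁻¹ * (g * x * g⁻¹)) := QE.mul hq.out hcomm.inv_left hx.inv (hx.conj g)
  have hT := mem_leftStab_of_type hc ht g
  have hTc := card_leftStab_dvd (classOf y)
  rw [card_classOf, hcy] at hTc
  have h1 : orderOf (x⁻¹ * (g * x * g⁻¹)) ∣ s ^ b := by
    have h2 : orderOf (⟨_, hT⟩ : leftStab (classOf y)) ∣ Nat.card (leftStab (classOf y)) :=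
      orderOf_dvd_natCard _
    rw [Subgroup.orderOf_mk] at h2
    exact h2.trans hTc
  obtain ⟨k, hk⟩ := hz
  rw [hk] at h1
  have hk0 : k ≠ 0 := by
    rintro rfl
    rw [pow_zero, orderOf_eq_one_iff] at hk
    rw [hk] at hg
    exact hg (one_mem _)
  have hqs : q ∣ s ^ b := (dvd_pow_self q hk0).trans h1
  exact ((Nat.prime_dvd_prime_iff_eq hq.out hs).1 (hq.out.dvd_of_dvd_pow hqs)).symm

omit [Finite G] hq in
/-- A subgroup contained in the union of two subgroups lies in one of them. -/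
theorem le_or_le_of_cover {Q E F : Subgroup G} (h : ∀ z ∈ Q, z ∈ E ∨ z ∈ F) : Q ≤ E ∨ Q ≤ F := by
  by_contra hno
  push Not at hno
  obtain ⟨h1, h2⟩ := hno
  obtain ⟨a, ha, haE⟩ := SetLike.not_le_iff_exists.1 h1
  obtain ⟨b, hb, hbF⟩ := SetLike.not_le_iff_exists.1 h2
  have ha' : a ∈ F := (h a ha).resolve_left haE
  have hb' : b ∈ E := (h b hb).resolve_right hbF
  rcases h (a * b) (Q.mul_mem ha hb) with h3 | h3
  · exact haE ((E.mul_mem_cancel_right hb').1 h3)
  · exact hbF ((F.mul_mem_cancel_left ha').1 h3)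

section Main

variable (hB : ∀ x : G, QE q x → ∃ (r : ℕ) (a : ℕ), r.Prime ∧ cs x = r ^ a)

include hB

/-- The dichotomy for two noncentral `q`-elements with different primes. -/
theorem dichotomy {x y : G} (hx : QE q x) (hy : QE q y) (hxc : x ∉ center G) (hyc : y ∉ center G)
    {r s a b : ℕ} (hr : r.Prime) (hs : s.Prime) (hrs : r ≠ s) (hcx : cs x = r ^ a)
    (hcy : cs y = s ^ b) :
    (s = q ∧ cs (x * y) = cs y) ∨ (r = q ∧ cs (x * y) = cs x) := by
  have hc : Nat.Coprime (cs x) (cs y) := by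
    rw [hcx, hcy]
    exact coprime_of_prime_pow hr hs hrs
  have hcomg : ∀ h : G, Commute x (h * y * h⁻¹) := fun h =>
    commute_of_ne hx (hy.conj h) hr hs hrs hcx (by rw [cs_conj, hcy])
  have hcomg' : ∀ h : G, Commute y (h * x * h⁻¹) := fun h =>
    commute_of_ne hy (hx.conj h) hs hr hrs.symm hcy (by rw [cs_conj, hcx])
  have hxy : Commute x y := by
    have := hcomg 1
    simpa using this
  obtain ⟨l, c, hl, hlc⟩ := hB (x * y) (QE.mul hq.out hxy hx hy)
  by_cases hlr : l = r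
  · -- `cs (x * y)` is coprime to `cs y`
    have h1 : Nat.Coprime (cs y) (cs (x * y)) := by
      rw [hcy, hlc, hlr]
      exact coprime_of_prime_pow hs hr hrs.symm
    have h2 : cs (x * y) = cs x := cs_mul_eq_left hc h1
    right
    refine ⟨?_, h2⟩
    have h3 : cs (y * x) = cs x := by rw [← cs_mul_comm]; exact h2
    exact prime_eq_of_type hy hc.symm h3 hcomg' hyc hr hcx
  · have h1 : Nat.Coprime (cs x) (cs (x * y)) := by
      rw [hcx, hlc]
      exact coprime_of_prime_pow hr hl (Ne.symm hlr)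
    have h2 : cs (x * y) = cs y := cs_mul_eq_right hc h1
    left
    refine ⟨?_, h2⟩
    exact prime_eq_of_type hx hc h2 hcomg hxc hs hcy

end Main

omit [Finite G] in
/-- A nonabelian `q`-group has an element outside the centre whose commutators are central. -/
theorem exists_second_center {Q : Type u} [Group Q] [Finite Q] (hQ : IsPGroup q Q)
    (hne : center Q ≠ ⊤) : ∃ y : Q, y ∉ center Q ∧ ∀ w : Q, w * y * w⁻¹ * y⁻¹ ∈ center Q := by
  haveI hnt : Nontrivial (Q ⧸ center Q) := by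
    rw [QuotientGroup.nontrivial_iff]
    exact hne
  have hP : IsPGroup q (Q ⧸ center Q) := hQ.to_quotient _
  haveI := hP.center_nontrivial
  obtain ⟨u, hu⟩ := exists_ne (1 : center (Q ⧸ center Q))
  obtain ⟨y, hy⟩ := QuotientGroup.mk'_surjective (center Q) (u : Q ⧸ center Q)
  refine ⟨y, ?_, ?_⟩
  · intro h
    apply hu
    apply Subtype.ext
    show (u : Q ⧸ center Q) = 1
    rw [← hy]
    exact (QuotientGroup.eq_one_iff y).2 h
  · intro w
    rw [← QuotientGroup.eq_one_iff]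
    have h1 := (Subgroup.mem_center_iff.1 u.2) (QuotientGroup.mk w)
    rw [← hy] at h1
    have h2 : (QuotientGroup.mk w : Q ⧸ center Q) * (QuotientGroup.mk y) =
        (QuotientGroup.mk y) * QuotientGroup.mk w := h1
    simp only [QuotientGroup.mk_mul, QuotientGroup.mk_inv]
    rw [h2]
    group

omit [Finite G] in
/-- Commutators with an element of the second centre are class functions. -/
theorem comm_conj_eq {Q : Type u} [Group Q] (y : Q) (h : ∀ w : Q, w * y * w⁻¹ * y⁻¹ ∈ center Q)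
    (a b : Q) : (a * b * a⁻¹) * y * (a * b * a⁻¹)⁻¹ * y⁻¹ = b * y * b⁻¹ * y⁻¹ := by
  set u := a⁻¹ * y * a⁻¹⁻¹ * y⁻¹ with hu
  set v := b * y * b⁻¹ * y⁻¹ with hv
  have huc : ∀ t : Q, t * u = u * t := fun t => (Subgroup.mem_center_iff.1 (h a⁻¹)) t
  have hvc : ∀ t : Q, t * v = v * t := fun t => (Subgroup.mem_center_iff.1 (h b)) t
  have h1 : a⁻¹ * y * a = u * y := by rw [hu]; group
  have h2 : b * y * b⁻¹ = v * y := by rw [hv]; group
  have h3 : a * y * a⁻¹ = u⁻¹ * y := by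
    have h4 : a * (a⁻¹ * y * a) * a⁻¹ = a * (u * y) * a⁻¹ := by rw [h1]
    have h5 : a * (u * y) * a⁻¹ = u * (a * y * a⁻¹) := by
      rw [← mul_assoc a u y, huc a]
      group
    have h6 : a * (a⁻¹ * y * a) * a⁻¹ = y := by group
    rw [h6, h5] at h4
    rw [eq_inv_mul_iff_mul_eq]
    exact h4.symm
  calc (a * b * a⁻¹) * y * (a * b * a⁻¹)⁻¹ * y⁻¹
      = a * b * (a⁻¹ * y * a) * b⁻¹ * a⁻¹ * y⁻¹ := by group
    _ = a * b * (u * y) * b⁻¹ * a⁻¹ * y⁻¹ := by rw [h1]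
    _ = u * (a * (b * y * b⁻¹) * a⁻¹ * y⁻¹) := by
        have h7 : a * b * (u * y) = u * (a * b * y) := by
          rw [← mul_assoc (a * b) u y, huc (a * b)]
          group
        rw [h7]
        group
    _ = u * (a * (v * y) * a⁻¹ * y⁻¹) := by rw [h2]
    _ = u * (v * (a * y * a⁻¹) * y⁻¹) := by
        have h8 : a * (v * y) = v * (a * y) := by
          rw [← mul_assoc a v y, hvc a]
          group
        rw [h8]
        group
    _ = u * (v * (u⁻¹ * y) * y⁻¹) := by rw [h3]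
    _ = v := by
        have h9 : v * u⁻¹ = u⁻¹ * v := ((hvc u⁻¹).symm)
        calc u * (v * (u⁻¹ * y) * y⁻¹) = u * (v * u⁻¹) := by group
          _ = u * (u⁻¹ * v) := by rw [h9]
          _ = v := by group

theorem qe_of_mem_sylow (Q : Sylow q G) {x : G} (hx : x ∈ (Q : Subgroup G)) : QE q x := by
  obtain ⟨k, hk⟩ := Q.2 ⟨x, hx⟩
  refine (qe_iff hq.out).2 ⟨k, ?_⟩
  exact congrArg Subtype.val hk

theorem exists_conj_mem (P R : Sylow q G) {y : G} (hy : y ∈ (P : Subgroup G)) :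
    ∃ g : G, g * y * g⁻¹ ∈ (R : Subgroup G) := by
  obtain ⟨g, hg⟩ := MulAction.exists_smul_eq G P R
  refine ⟨g, ?_⟩
  rw [← hg, Sylow.coe_subgroup_smul, Subgroup.mem_pointwise_smul_iff_inv_smul_mem]
  simp only [MulAut.smul_def, MulAut.conj_inv_apply]
  convert hy using 1
  group

theorem coprime_index_of_pow (Q : Sylow q G) {x : G} {b : ℕ} (h : cs x = q ^ b) :
    Nat.Coprime (Q : Subgroup G).index (cs x) := by
  rw [h]
  exact Nat.Coprime.pow_right _ ((Nat.Prime.coprime_iff_not_dvd hq.out).2 Q.not_dvd_index).symm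

/-- **The prime is unique.** -/
theorem exists_prime (hB : ∀ x : G, QE q x → ∃ (r : ℕ) (a : ℕ), r.Prime ∧ cs x = r ^ a) :
    ∃ p : ℕ, p.Prime ∧ ∀ x : G, QE q x → ∃ a : ℕ, cs x = p ^ a := by
  by_contra hno
  push Not at hno
  have hqp := hq.out
  obtain ⟨x₀, hx₀, hx₀n⟩ := hno q hqp
  obtain ⟨r, a, hr, hcx₀⟩ := hB x₀ hx₀
  have hrq : r ≠ q := by
    rintro rfl
    exact hx₀n a hcx₀
  obtain ⟨y₀, hy₀, hy₀n⟩ := hno r hr
  obtain ⟨s, b, hs, hcy₀⟩ := hB y₀ hy₀
  have hsr : s ≠ r := by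
    rintro rfl
    exact hy₀n b hcy₀
  have hnc : ∀ {t : G} {l c : ℕ}, l.Prime → cs t = l ^ c → c ≠ 0 → t ∉ center G := by
    intro t l c hl h hc ht
    have h1 : cs t = 1 := index_cent_eq_one_iff.2 ht
    rw [h] at h1
    rcases pow_eq_one_iff.1 h1 with h2 | h2
    · exact (Nat.Prime.one_lt hl).ne' h2
    · exact hc h2
  have ha0 : a ≠ 0 := by
    rintro rfl
    apply hx₀n 0
    rw [hcx₀, pow_zero, pow_zero]
  have hb0 : b ≠ 0 := by
    rintro rfl
    apply hy₀n 0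
    rw [hcy₀, pow_zero, pow_zero]
  have hx₀c := hnc hr hcx₀ ha0
  have hy₀c := hnc hs hcy₀ hb0
  have hsq : s = q := by
    rcases dichotomy hB hx₀ hy₀ hx₀c hy₀c hr hs hsr.symm hcx₀ hcy₀ with h | h
    · exact h.1
    · exact absurd h.1 hrq
  subst hsq
  -- the trichotomy
  have F3 : ∀ t : G, QE s t → t ∈ center G ∨ (∃ e, cs t = r ^ e) ∨ (∃ e, cs t = s ^ e) := by
    intro t ht
    by_cases htc : t ∈ center G
    · exact Or.inl htc
    obtain ⟨l, c, hl, hlc⟩ := hB t ht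
    by_cases hlr : l = r
    · subst hlr
      exact Or.inr (Or.inl ⟨c, hlc⟩)
    by_cases hls : l = s
    · subst hls
      exact Or.inr (Or.inr ⟨c, hlc⟩)
    exfalso
    rcases dichotomy hB hx₀ ht hx₀c htc hr hl (Ne.symm hlr) hcx₀ hlc with h | h
    · exact hls h.1
    · exact hrq h.1
  -- the two kinds of elements
  let Rr : Set G := {x | QE s x ∧ x ∉ center G ∧ ∃ e, cs x = r ^ e}
  have hRconj : ∀ x ∈ Rr, ∀ g : G, g * x * g⁻¹ ∈ Rr := by
    rintro x ⟨h1, h2, e, h3⟩ g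
    refine ⟨h1.conj g, ?_, e, by rw [cs_conj, h3]⟩
    intro h
    apply h2
    have : x = g⁻¹ * (g * x * g⁻¹) * g⁻¹⁻¹ := by group
    rw [this]
    exact (inferInstance : (center G).Normal).conj_mem _ h _
  have F1 : ∀ x ∈ Rr, ∀ y : G, QE s y → (∃ e, cs y = s ^ e) → Commute x y := by
    rintro x ⟨h1, -, e, h3⟩ y hy ⟨f, hf⟩
    exact commute_of_ne h1 hy hr hqp hrq h3 hf
  -- `q`-elements commute with `Rr`
  have F4 : ∀ x ∈ Rr, ∀ t : G, QE s t → Commute x t := by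
    intro x hx t ht
    obtain ⟨Q, hQ⟩ := exists_sylow_mem ht
    have hcov : ∀ z ∈ (Q : Subgroup G), z ∈ closure Rr ∨ z ∈ centralizer Rr := by
      intro z hz
      have hzq := qe_of_mem_sylow Q hz
      rcases F3 z hzq with h | h | h
      · right
        rw [Subgroup.mem_centralizer_iff]
        intro u _
        exact (Subgroup.mem_center_iff.1 h) u
      · by_cases hzc : z ∈ center G
        · right
          rw [Subgroup.mem_centralizer_iff]
          intro u _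
          exact (Subgroup.mem_center_iff.1 hzc) u
        · left
          obtain ⟨e, he⟩ := h
          exact subset_closure ⟨hzq, hzc, e, he⟩
      · right
        rw [Subgroup.mem_centralizer_iff]
        intro u hu
        exact (F1 u hu z hzq h).eq
    rcases le_or_le_of_cover hcov with h | h
    · exfalso
      obtain ⟨Q', hQ'⟩ := exists_sylow_mem hy₀
      obtain ⟨g, hg⟩ := exists_conj_mem Q' Q hQ'
      set y' := g * y₀ * g⁻¹ with hy'
      have hy'q : QE s y' := hy₀.conj g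
      have hcy' : cs y' = s ^ b := by rw [hy', cs_conj, hcy₀]
      have hle : closure Rr ≤ cent y' := by
        rw [closure_le]
        intro u hu
        exact mem_cent_iff.2 (F1 u hu y' hy'q ⟨b, hcy'⟩).symm.eq
      have := not_dvd_cs_of_sylow_le Q (h.trans hle)
      rw [hcy'] at this
      exact this (dvd_pow_self s hb0)
    · have := h hQ
      rw [Subgroup.mem_centralizer_iff] at this
      exact this x hx
  have hx₀R : x₀ ∈ Rr := ⟨hx₀, hx₀c, a, hcx₀⟩
  haveI : Fact r.Prime := ⟨hr⟩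
  -- an element of the second centre of a Sylow subgroup
  obtain ⟨Q⟩ : Nonempty (Sylow s G) := inferInstance
  have hne : center (Q : Subgroup G) ≠ ⊤ := by
    intro htop
    obtain ⟨Q', hQ'⟩ := exists_sylow_mem hy₀
    obtain ⟨g, hg⟩ := exists_conj_mem Q' Q hQ'
    set y' := g * y₀ * g⁻¹ with hy'
    have hcy' : cs y' = s ^ b := by rw [hy', cs_conj, hcy₀]
    have hle : (Q : Subgroup G) ≤ cent y' := by
      intro u hu
      have h1 : (⟨y', hg⟩ : (Q : Subgroup G)) ∈ center (Q : Subgroup G) := by rw [htop]; trivial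
      have h2 := (Subgroup.mem_center_iff.1 h1) ⟨u, hu⟩
      exact mem_cent_iff.2 (congrArg Subtype.val h2).symm
    have := not_dvd_cs_of_sylow_le Q hle
    rw [hcy'] at this
    exact this (dvd_pow_self s hb0)
  obtain ⟨y₂, hy₂, hy₂c⟩ := exists_second_center (Q := (Q : Subgroup G)) Q.2 hne
  have hy₂q : QE s (y₂ : G) := qe_of_mem_sylow Q y₂.2
  -- elements of `Q` commuting with `Rr`
  have hQcomm : ∀ t : (Q : Subgroup G), (t : G) ∈ center G ∨ (t : G) ∈ Rr →
      ∀ u : (Q : Subgroup G), u * t = t * u := by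
    rintro t (h | h) u
    · exact Subtype.ext ((Subgroup.mem_center_iff.1 h) u)
    · exact Subtype.ext (F4 _ h _ (qe_of_mem_sylow Q u.2)).symm.eq
  have hy₂R : ∃ e, cs (y₂ : G) = s ^ e := by
    rcases F3 _ hy₂q with h | ⟨e, he⟩ | h
    · exact absurd (Subgroup.mem_center_iff.2 (hQcomm y₂ (Or.inl h))) hy₂
    · by_cases hc : (y₂ : G) ∈ center G
      · exact absurd (Subgroup.mem_center_iff.2 (hQcomm y₂ (Or.inl hc))) hy₂
      · exact absurd (Subgroup.mem_center_iff.2 (hQcomm y₂ (Or.inr ⟨hy₂q, hc, e, he⟩))) hy₂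
    · exact h
  obtain ⟨b₂, hb₂⟩ := hy₂R
  have hcop : Nat.Coprime (cs x₀) (cs (y₂ : G)) := by
    rw [hcx₀, hb₂]
    exact coprime_of_prime_pow hr hqp hrq
  have hy₂nc : (y₂ : G) ∉ center G := fun h =>
    hy₂ (Subgroup.mem_center_iff.2 (hQcomm y₂ (Or.inl h)))
  have hb₂0 : b₂ ≠ 0 := by
    rintro rfl
    rw [pow_zero] at hb₂
    exact hy₂nc (index_cent_eq_one_iff.1 hb₂)
  have ht : cs (x₀ * (y₂ : G)) = cs (y₂ : G) := by
    rcases dichotomy hB hx₀ hy₂q hx₀c hy₂nc hr hqp hrq hcx₀ hb₂ with h | h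
    · exact h.2
    · exact absurd h.1 hrq
  obtain ⟨g, hg⟩ := not_all_central hcop ht hx₀c
  set z := x₀⁻¹ * (g * x₀ * g⁻¹) with hz
  have hT : z ∈ leftStab (classOf (y₂ : G)) := mem_leftStab_of_type hcop ht g
  have h1 : z * (y₂ : G) ∈ classOf (y₂ : G) := hT _ (IsConj.refl _)
  obtain ⟨h, hh⟩ := isConj_iff.1 h1
  obtain ⟨w, hw, c, hc, rfl⟩ := exists_mul_of_coprime (coprime_index_of_pow Q hb₂) h
  have hcy : c * (y₂ : G) * c⁻¹ = y₂ := by
    rw [mem_cent_iff.1 hc |>.symm]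
    group
  have hzw : z = (w * (y₂ : G) * w⁻¹) * (y₂ : G)⁻¹ := by
    rw [eq_mul_inv_iff_mul_eq, ← hh]
    calc w * c * (y₂ : G) * (w * c)⁻¹ = w * (c * (y₂ : G) * c⁻¹) * w⁻¹ := by group
      _ = w * (y₂ : G) * w⁻¹ := by rw [hcy]
  have hz1 : z ≠ 1 := by
    intro h
    rw [h] at hg
    exact hg (one_mem _)
  -- `w` is of `q`-type
  have hwq := qe_of_mem_sylow Q hw
  have hcomz : ¬ Commute w (y₂ : G) := by
    intro h
    apply hz1
    rw [hzw, h.eq]
    group
  have hwR : ∃ e, cs w = s ^ e := by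
    rcases F3 _ hwq with h | ⟨e, he⟩ | h
    · exact absurd (Subgroup.mem_center_iff.1 h (y₂ : G)).symm hcomz
    · by_cases hwc : w ∈ center G
      · exact absurd (Subgroup.mem_center_iff.1 hwc (y₂ : G)).symm hcomz
      · exact absurd (F4 w ⟨hwq, hwc, e, he⟩ _ hy₂q) hcomz
    · exact h
  obtain ⟨e, he⟩ := hwR
  have hry : ¬ r ∣ cs (y₂ : G) := by
    rw [hb₂]
    exact not_dvd_pow_of_ne hr hqp hrq
  have hrw : ¬ r ∣ cs w := by
    rw [he]
    exact not_dvd_pow_of_ne hr hqp hrq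
  obtain ⟨R, hR⟩ := exists_sylow_le_cent hry
  obtain ⟨R₀, hR₀⟩ := exists_sylow_le_cent hrw
  obtain ⟨g₁, hg₁⟩ := exists_conj_sylow_le_cent R₀ R hR₀
  have hcop2 : Nat.Coprime (cs (y₂ : G)) (Q : Subgroup G).index :=
    (coprime_index_of_pow Q hb₂).symm
  obtain ⟨c₁, hc₁, b', hb', rfl⟩ := exists_mul_of_coprime hcop2 g₁
  -- the class function
  have hclass := comm_conj_eq y₂ hy₂c ⟨b', hb'⟩ ⟨w, hw⟩
  have hclass' : (b' * w * b'⁻¹) * (y₂ : G) * (b' * w * b'⁻¹)⁻¹ * (y₂ : G)⁻¹ =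
      w * (y₂ : G) * w⁻¹ * (y₂ : G)⁻¹ := congrArg Subtype.val hclass
  have hc₁y : c₁ * (y₂ : G) = (y₂ : G) * c₁ := (mem_cent_iff.1 hc₁).symm
  have hc₁yi : c₁ * (y₂ : G)⁻¹ = (y₂ : G)⁻¹ * c₁ := by
    have h2 : Commute c₁ (y₂ : G) := hc₁y
    exact h2.inv_right.eq
  set b₁ := c₁ * b' * w * (c₁ * b')⁻¹ with hb₁
  have hb₁2 : b₁ = c₁ * (b' * w * b'⁻¹) * c₁⁻¹ := by rw [hb₁]; group
  have hcomm : b₁ * (y₂ : G) * b₁⁻¹ * (y₂ : G)⁻¹ = c₁ * z * c₁⁻¹ := by
    rw [hzw, ← hclass', hb₁2]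
    calc c₁ * (b' * w * b'⁻¹) * c₁⁻¹ * (y₂ : G) * (c₁ * (b' * w * b'⁻¹) * c₁⁻¹)⁻¹ * (y₂ : G)⁻¹
        = c₁ * (b' * w * b'⁻¹) * (c₁⁻¹ * (y₂ : G) * c₁) * (b' * w * b'⁻¹)⁻¹ * c₁⁻¹ * (y₂ : G)⁻¹ := by
          group
      _ = c₁ * (b' * w * b'⁻¹) * (y₂ : G) * (b' * w * b'⁻¹)⁻¹ * (c₁⁻¹ * (y₂ : G)⁻¹) := by
          have : c₁⁻¹ * (y₂ : G) * c₁ = y₂ := by
            rw [mul_assoc, ← hc₁y]
            group
          rw [this]
          group
      _ = c₁ * (b' * w * b'⁻¹) * (y₂ : G) * (b' * w * b'⁻¹)⁻¹ * ((y₂ : G)⁻¹ * c₁⁻¹) := by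
          have : c₁⁻¹ * (y₂ : G)⁻¹ = (y₂ : G)⁻¹ * c₁⁻¹ := by
            have h2 : Commute c₁ (y₂ : G) := hc₁y
            exact h2.inv_left.inv_right.eq
          rw [this]
      _ = _ := by group
  have hRz : (R : Subgroup G) ≤ cent (c₁ * z * c₁⁻¹) := by
    intro u hu
    rw [← hcomm]
    have h2 : Commute b₁ u := mem_cent_iff.1 (hg₁ hu)
    have h3 : Commute (y₂ : G) u := mem_cent_iff.1 (hR hu)
    exact mem_cent_iff.2 (((h2.mul_left h3).mul_left h2.inv_left).mul_left h3.inv_left).eq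
  have hrz : ¬ r ∣ cs z := by
    have := not_dvd_cs_of_sylow_le R hRz
    rwa [cs_conj] at this
  -- `z` is a `q`-element centralizing `q`-elements
  have hgx : g * x₀ * g⁻¹ ∈ Rr := hRconj _ hx₀R g
  have hzq : QE s z := QE.mul hqp (F4 _ hx₀R _ hgx.1).inv_left hx₀.inv hgx.1
  have hQz : (Q : Subgroup G) ≤ cent z := by
    intro u hu
    have hu' := qe_of_mem_sylow Q hu
    exact mem_cent_iff.2 ((F4 _ hx₀R _ hu').inv_left.mul_left (F4 _ hgx _ hu')).eq
  have hsz : ¬ s ∣ cs z := not_dvd_cs_of_sylow_le Q hQz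
  rcases F3 z hzq with h | ⟨f, hf⟩ | ⟨f, hf⟩
  · exact hg h
  · have hf0 : f ≠ 0 := by
      rintro rfl
      rw [pow_zero] at hf
      exact hg (index_cent_eq_one_iff.1 hf)
    exact hrz (hf ▸ dvd_pow_self r hf0)
  · have hf0 : f ≠ 0 := by
      rintro rfl
      rw [pow_zero] at hf
      exact hg (index_cent_eq_one_iff.1 hf)
    exact hsz (hf ▸ dvd_pow_self s hf0)

end Cfsg.Agent.Lib.Baer.Unique
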