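import Mathlib
import Cfsg.Agent.Lib.Baer.Final
import Cfsg.Agent.Lib.Baer.Unique
import Cfsg.Agent.Lib.Basic.BurnsideAut
import Cfsg.Agent.Lib.Transfer.Basic

/-!
# Coprime actions all of whose orbits have `2`-power size

A group of order prime to the odd prime `q` acting on an abelian `q`-group with all orbits of
`2`-power size acts as a `2`-group.
-/

set_option autoImplicit false

namespace Cfsg.Agent.Lib.Baer.TwoOrbit

open Subgroup

universe u v

variable {V : Type v} [CommGroup V]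

section Restrict

variable {Γ : Type u} [Group Γ]

theorem inv_apply_apply (ρ : Γ →* MulAut V) (g : Γ) (w : V) : ρ g⁻¹ (ρ g w) = w := by
  rw [map_inv, MulAut.inv_apply_self]

theorem apply_inv_apply (ρ : Γ →* MulAut V) (g : Γ) (w : V) : ρ g (ρ g⁻¹ w) = w := by
  rw [map_inv, MulAut.apply_inv_self]

/-- Restriction of an action to an invariant subgroup. -/
def restr (ρ : Γ →* MulAut V) (W : Subgroup V) (hW : ∀ g, ∀ w ∈ W, ρ g w ∈ W) :
    Γ →* MulAut W where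
  toFun g :=
    { toFun := fun w => ⟨ρ g w, hW g w w.2⟩
      invFun := fun w => ⟨ρ g⁻¹ w, hW g⁻¹ w w.2⟩
      left_inv := fun w => Subtype.ext (inv_apply_apply ρ g w)
      right_inv := fun w => Subtype.ext (apply_inv_apply ρ g w)
      map_mul' := fun a b => Subtype.ext (map_mul _ _ _) }
  map_one' := by
    ext w
    simp
  map_mul' := by
    intro a b
    ext w
    simp

theorem restr_apply (ρ : Γ →* MulAut V) (W : Subgroup V) (hW : ∀ g, ∀ w ∈ W, ρ g w ∈ W) (g : Γ)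
    (w : W) : ((restr ρ W hW g w : W) : V) = ρ g w := rfl

/-- The action on a quotient. -/
def quotAct (ρ : Γ →* MulAut V) (W : Subgroup V) (hW : ∀ g, ∀ w ∈ W, ρ g w ∈ W) :
    Γ →* MulAut (V ⧸ W) where
  toFun g := QuotientGroup.congr W W (ρ g) (by
    apply le_antisymm
    · rintro _ ⟨w, hw, rfl⟩
      exact hW g w hw
    · intro w hw
      exact ⟨ρ g⁻¹ w, hW g⁻¹ w hw, apply_inv_apply ρ g w⟩)
  map_one' := by
    ext x
    induction x using QuotientGroup.induction_on with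
    | H v => simp
  map_mul' := by
    intro a b
    ext x
    induction x using QuotientGroup.induction_on with
    | H v => simp

theorem quotAct_mk (ρ : Γ →* MulAut V) (W : Subgroup V) (hW : ∀ g, ∀ w ∈ W, ρ g w ∈ W) (g : Γ)
    (v : V) : quotAct ρ W hW g (QuotientGroup.mk v) = QuotientGroup.mk (ρ g v) := rfl

end Restrict

/-- The statement to be proved. -/
def St (q : ℕ) (V : Type v) [CommGroup V] : Prop :=
  ∀ H P : Subgroup (MulAut V), P ≤ H → (Nat.card H).Coprime q → IsPGroup 2 P →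
    (∀ h ∈ H, ∀ v, ∃ u ∈ P, h v = u v) → ∀ h ∈ H, ∃ e : ℕ, h ^ 2 ^ e = 1

theorem St.gen {q : ℕ} (hS : St q V) {Γ : Type u} [Group Γ] [Finite Γ] (ρ : Γ →* MulAut V)
    (hcop : (Nat.card Γ).Coprime q) (P : Subgroup Γ) (hP : IsPGroup 2 P)
    (hOE : ∀ g v, ∃ u ∈ P, ρ g v = ρ u v) (g : Γ) : ∃ e : ℕ, (ρ g) ^ 2 ^ e = 1 := by
  apply hS ρ.range (P.map ρ) (Subgroup.map_le_range ρ P)
    (Nat.Coprime.coprime_dvd_left (Subgroup.card_range_dvd ρ) hcop) (hP.map ρ)
  · rintro _ ⟨g', rfl⟩ v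
    obtain ⟨u, hu, huv⟩ := hOE g' v
    exact ⟨ρ u, ⟨u, hu, rfl⟩, huv⟩
  · exact ⟨g, rfl⟩

/-- A `q'`-automorphism trivial on `W` and on `V / W` is trivial. -/
theorem eq_one_of_unipotent {q : ℕ} [hq : Fact q.Prime] (hV : IsPGroup q V) {a : MulAut V}
    {W : Subgroup V} (ha1 : ∀ w ∈ W, a w = w) (ha2 : ∀ v, a v * v⁻¹ ∈ W) {m : ℕ} (hm : a ^ m = 1)
    (hcop : m.Coprime q) : a = 1 := by
  have hkey : ∀ (i : ℕ) (v : V), (a ^ i) v = v * (a v * v⁻¹) ^ i := by
    intro i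
    induction i with
    | zero =>
      intro v
      simp
    | succ i ih =>
      intro v
      rw [pow_succ', MulAut.mul_apply, ih, map_mul, map_pow, ha1 _ (ha2 v), pow_succ]
      have h1 : v * (a v * v⁻¹) = a v := by
        rw [mul_comm (a v), mul_inv_cancel_left]
      nth_rewrite 1 [← h1]
      rw [mul_assoc, mul_comm (a v * v⁻¹) ((a v * v⁻¹) ^ i)]
  ext v
  have h1 := hkey m v
  rw [hm] at h1
  have h2 : (a v * v⁻¹) ^ m = 1 := by
    have h3 : v = v * (a v * v⁻¹) ^ m := h1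
    exact mul_eq_left.1 h3.symm
  obtain ⟨k, hk⟩ := hV (a v * v⁻¹)
  have h3 : orderOf (a v * v⁻¹) ∣ m := orderOf_dvd_of_pow_eq_one h2
  have h4 : orderOf (a v * v⁻¹) ∣ q ^ k := orderOf_dvd_of_pow_eq_one hk
  have h5 : orderOf (a v * v⁻¹) = 1 :=
    Nat.eq_one_of_dvd_coprimes (Nat.Coprime.pow_right k hcop) h3 h4
  have h6 := orderOf_eq_one_iff.1 h5
  simpa using mul_inv_eq_one.1 h6

theorem pow_two_pow_add_left {A : Type*} [Monoid A] {a : A} {e f : ℕ} (h : a ^ 2 ^ e = 1) :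
    a ^ 2 ^ (e + f) = 1 := by
  rw [pow_add, pow_mul, h, one_pow]

theorem pow_two_pow_add_right {A : Type*} [Monoid A] {a : A} {e f : ℕ} (h : a ^ 2 ^ f = 1) :
    a ^ 2 ^ (e + f) = 1 := by
  rw [add_comm, pow_two_pow_add_left h]

/-- **Reducible case.** -/
theorem case_reducible {q : ℕ} [hq : Fact q.Prime] [Finite V] (hV : IsPGroup q V)
    (hSW : ∀ W : Subgroup V, W ≠ ⊤ → St q W) (hSQ : ∀ W : Subgroup V, W ≠ ⊥ → St q (V ⧸ W))
    (H Q : Subgroup (MulAut V)) (hQH : Q ≤ H) (hcop : (Nat.card H).Coprime q) (hQ : IsPGroup 2 Q)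
    (hOE : ∀ h ∈ H, ∀ v, ∃ u ∈ Q, h v = u v) (W : Subgroup V) (hW : Inv W Q) (hW1 : W ≠ ⊥)
    (hW2 : W ≠ ⊤) : ∀ h ∈ H, ∃ e : ℕ, h ^ 2 ^ e = 1 := by
  classical
  haveI : Finite (MulAut V) :=
    Finite.of_injective (fun a : MulAut V => (a : V → V)) DFunLike.coe_injective
  have hWΓ : ∀ g : H, ∀ w ∈ W, (H.subtype g) w ∈ W := by
    intro g w hw
    obtain ⟨u, hu, huv⟩ := hOE g g.2 w
    have : H.subtype g w = u w := huv
    rw [this]
    exact hW u hu w hw
  let ρW := restr H.subtype W hWΓ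
  let ρQ := quotAct H.subtype W hWΓ
  have hQ' : IsPGroup 2 (Q.subgroupOf H) := hQ.comap_subtype
  have hOEW : ∀ g (w : W), ∃ u ∈ Q.subgroupOf H, ρW g w = ρW u w := by
    intro g w
    obtain ⟨u, hu, huv⟩ := hOE g g.2 w
    exact ⟨⟨u, hQH hu⟩, hu, Subtype.ext huv⟩
  have hOEQ : ∀ g (x : V ⧸ W), ∃ u ∈ Q.subgroupOf H, ρQ g x = ρQ u x := by
    intro g x
    induction x using QuotientGroup.induction_on with
    | H v =>
      obtain ⟨u, hu, huv⟩ := hOE g g.2 v
      refine ⟨⟨u, hQH hu⟩, hu, ?_⟩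
      show QuotientGroup.mk ((g : MulAut V) v) = QuotientGroup.mk (u v)
      rw [huv]
  intro h hh
  obtain ⟨e, he⟩ := (hSW W hW2).gen ρW hcop (Q.subgroupOf H) hQ' hOEW ⟨h, hh⟩
  obtain ⟨f, hf⟩ := (hSQ W hW1).gen ρQ hcop (Q.subgroupOf H) hQ' hOEQ ⟨h, hh⟩
  refine ⟨e + f, ?_⟩
  set g : H := ⟨h, hh⟩ ^ 2 ^ (e + f) with hg
  have hgv : (g : MulAut V) = h ^ 2 ^ (e + f) := by
    rw [hg]
    rfl
  have h1 : ρW g = 1 := by
    rw [hg, map_pow]
    exact pow_two_pow_add_left he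
  have h2 : ρQ g = 1 := by
    rw [hg, map_pow]
    exact pow_two_pow_add_right hf
  rw [← hgv]
  have hc : Nat.Coprime (Nat.card H) q := hcop
  refine eq_one_of_unipotent hV (W := W) ?_ ?_ (m := Nat.card H) ?_ hc
  · intro w hw
    have h3 := congrArg (fun a : MulAut W => ((a ⟨w, hw⟩ : W) : V)) h1
    exact h3
  · intro v
    have h3 := congrArg (fun a : MulAut (V ⧸ W) => a (QuotientGroup.mk v)) h2
    have h4 : (QuotientGroup.mk ((g : MulAut V) v) : V ⧸ W) = QuotientGroup.mk v := h3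
    have h5 := W.inv_mem (QuotientGroup.eq.1 h4)
    rw [mul_inv_rev, inv_inv, mul_comm] at h5
    exact h5
  · have := pow_card_eq_one' (x := g)
    exact congrArg Subtype.val this

/-- **Index two case.** -/
theorem case_two {q : ℕ} [hq : Fact q.Prime] [Finite V]
    (hSW : ∀ W : Subgroup V, W ≠ ⊤ → St q W)
    (H Q : Subgroup (MulAut V)) (hQH : Q ≤ H) (hcop : (Nat.card H).Coprime q) (hQ : IsPGroup 2 Q)
    (hOE : ∀ h ∈ H, ∀ v, ∃ u ∈ Q, h v = u v) (hIrr : Irr Q) (M : Subgroup (MulAut V))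
    (hM : IdxTwo M Q) (W : Subgroup V) (hW : Inv W M) (hW1 : W ≠ ⊥) (hW2 : W ≠ ⊤) :
    ∀ h ∈ H, ∃ e : ℕ, h ^ 2 ^ e = 1 := by
  classical
  haveI : Finite (MulAut V) :=
    Finite.of_injective (fun a : MulAut V => (a : V → V)) DFunLike.coe_injective
  obtain ⟨hMQ, ⟨t, htQ, htM⟩, hprod⟩ := hM
  let W' : Subgroup V := W.comap (t⁻¹ : MulAut V).toMonoidHom
  have hmemW' : ∀ x, x ∈ W' ↔ t⁻¹ x ∈ W := fun _ => Iff.rfl
  have hti : t⁻¹ ∉ M := fun h => htM (by simpa using M.inv_mem h)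
  have htiQ : t⁻¹ ∈ Q := Q.inv_mem htQ
  have hi : ∀ u ∈ M, ∀ w ∈ W, u w ∈ W := hW
  have hii : ∀ u ∈ M, ∀ x ∈ W', u x ∈ W' := by
    intro u hu x hx
    rw [hmemW'] at hx ⊢
    have h1 : u * t ∉ M := fun h => htM ((M.mul_mem_cancel_left hu).1 h)
    have h2 : t⁻¹ * (u * t) ∈ M := hprod _ htiQ _ (Q.mul_mem (hMQ hu) htQ) hti h1
    have h3 : t⁻¹ (u x) = (t⁻¹ * (u * t)) (t⁻¹ x) := by
      simp [MulAut.mul_apply]
    rw [h3]
    exact hi _ h2 _ hx
  have hiii : ∀ u ∈ Q, u ∉ M → ∀ w ∈ W, u w ∈ W' := by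
    intro u hu huM w hw
    rw [hmemW']
    have h2 : t⁻¹ * u ∈ M := hprod _ htiQ _ hu hti huM
    exact hi _ h2 _ hw
  have hiv : ∀ u ∈ Q, u ∉ M → ∀ x ∈ W', u x ∈ W := by
    intro u hu huM x hx
    rw [hmemW'] at hx
    have h2 : u * t ∈ M := hprod _ hu _ htQ huM htM
    have h3 : u x = (u * t) (t⁻¹ x) := by
      simp [MulAut.mul_apply]
    rw [h3]
    exact hi _ h2 _ hx
  have hinf : W ⊓ W' = ⊥ := by
    have h1 : Inv (W ⊓ W') Q := by
      intro u hu w hw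
      by_cases huM : u ∈ M
      · exact ⟨hi u huM w hw.1, hii u huM w hw.2⟩
      · exact ⟨hiv u hu huM w hw.2, hiii u hu huM w hw.1⟩
    rcases hIrr _ h1 with h | h
    · exact h
    · exfalso
      apply hW2
      rw [eq_top_iff, ← h]
      exact inf_le_left
  have hsup : W ⊔ W' = ⊤ := by
    have h1 : Inv (W ⊔ W') Q := by
      intro u hu w hw
      obtain ⟨a, ha, b, hb, rfl⟩ := Subgroup.mem_sup.1 hw
      rw [map_mul]
      by_cases huM : u ∈ M
      · exact Subgroup.mul_mem_sup (hi u huM a ha) (hii u huM b hb)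
      · rw [mul_comm]
        exact Subgroup.mul_mem_sup (hiv u hu huM b hb) (hiii u hu huM a ha)
    rcases hIrr _ h1 with h | h
    · exfalso
      apply hW1
      rw [eq_bot_iff, ← h]
      exact le_sup_left
    · exact h
  have hW'2 : W' ≠ ⊤ := by
    intro h
    apply hW2
    rw [eq_top_iff]
    intro x _
    have h1 : t x ∈ W' := by rw [h]; trivial
    rw [hmemW'] at h1
    simpa using h1
  -- each `h ∈ H` permutes `W`, `W'`
  have hdic : ∀ h ∈ H, (∀ w ∈ W, h w ∈ W) ∨ (∀ w ∈ W, h w ∈ W') := by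
    intro h hh
    have h1 := Unique.le_or_le_of_cover (Q := W) (E := W.comap h.toMonoidHom)
      (F := W'.comap h.toMonoidHom) (by
        intro z hz
        obtain ⟨u, hu, huz⟩ := hOE h hh z
        by_cases huM : u ∈ M
        · left
          show h z ∈ W
          rw [huz]
          exact hi u huM z hz
        · right
          show h z ∈ W'
          rw [huz]
          exact hiii u hu huM z hz)
    exact h1
  have hdic' : ∀ h ∈ H, (∀ w ∈ W', h w ∈ W') ∨ (∀ w ∈ W', h w ∈ W) := by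
    intro h hh
    have h1 := Unique.le_or_le_of_cover (Q := W') (E := W'.comap h.toMonoidHom)
      (F := W.comap h.toMonoidHom) (by
        intro z hz
        obtain ⟨u, hu, huz⟩ := hOE h hh z
        by_cases huM : u ∈ M
        · left
          show h z ∈ W'
          rw [huz]
          exact hii u huM z hz
        · right
          show h z ∈ W
          rw [huz]
          exact hiv u hu huM z hz)
    exact h1
  -- a subgroup mapping everything into `U` forces `U = ⊤`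
  have hsurj : ∀ (h : MulAut V) (U : Subgroup V), (∀ w ∈ W, h w ∈ U) → (∀ w ∈ W', h w ∈ U) →
      U = ⊤ := by
    intro h U h1 h2
    rw [eq_top_iff]
    intro x _
    have h3 : h⁻¹ x ∈ W ⊔ W' := by rw [hsup]; trivial
    obtain ⟨a, ha, b, hb, hab⟩ := Subgroup.mem_sup.1 h3
    have h4 : x = h a * h b := by
      rw [← map_mul, hab, MulAut.apply_inv_self]
    rw [h4]
    exact U.mul_mem (h1 a ha) (h2 b hb)
  -- the stabilizer
  let Γ₁ : Subgroup (MulAut V) :=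
    { carrier := {h | h ∈ H ∧ ∀ w ∈ W, h w ∈ W}
      one_mem' := ⟨H.one_mem, fun w hw => hw⟩
      mul_mem' := fun {a b} ha hb => ⟨H.mul_mem ha.1 hb.1, fun w hw => ha.2 _ (hb.2 w hw)⟩
      inv_mem' := by
        intro a ha
        refine ⟨H.inv_mem ha.1, ?_⟩
        obtain ⟨n, hn, hn1⟩ := isOfFinOrder_iff_pow_eq_one.1 (isOfFinOrder_of_finite a)
        have h1 : a⁻¹ = a ^ (n - 1) := by
          rw [inv_eq_iff_mul_eq_one, ← pow_succ', Nat.sub_add_cancel hn, hn1]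
        rw [h1]
        have h2 : ∀ k : ℕ, ∀ w ∈ W, (a ^ k) w ∈ W := by
          intro k
          induction k with
          | zero => simp
          | succ k ih =>
            intro w hw
            rw [pow_succ]
            exact ih _ (ha.2 w hw)
        exact h2 _ }
  have hmemΓ : ∀ h, h ∈ Γ₁ ↔ h ∈ H ∧ ∀ w ∈ W, h w ∈ W := fun _ => Iff.rfl
  have hΓW' : ∀ h ∈ Γ₁, ∀ x ∈ W', h x ∈ W' := by
    intro h hh
    rcases hdic' h hh.1 with h1 | h1
    · exact h1
    · exact absurd (hsurj h W hh.2 h1) hW2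
  have hsq : ∀ h ∈ H, h * h ∈ Γ₁ := by
    intro h hh
    by_cases h0 : h ∈ Γ₁
    · exact Γ₁.mul_mem h0 h0
    · have h1 : ∀ w ∈ W, h w ∈ W' := by
        rcases hdic h hh with h1 | h1
        · exact absurd ⟨hh, h1⟩ h0
        · exact h1
      have h2 : ∀ x ∈ W', h x ∈ W := by
        rcases hdic' h hh with h2 | h2
        · exact absurd (hsurj h W' h1 h2) hW'2
        · exact h2
      exact ⟨H.mul_mem hh hh, fun w hw => h2 _ (h1 w hw)⟩
  have hMΓ : M ≤ Γ₁ := fun u hu => ⟨hQH (hMQ hu), hi u hu⟩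
  have hΓH : Γ₁ ≤ H := fun u hu => hu.1
  have hcopΓ : (Nat.card Γ₁).Coprime q :=
    Nat.Coprime.coprime_dvd_left (Subgroup.card_dvd_of_le hΓH) hcop
  have hM' : IsPGroup 2 (M.subgroupOf Γ₁) := (hQ.to_le hMQ).comap_subtype
  have hW₁ : ∀ g : Γ₁, ∀ w ∈ W, Γ₁.subtype g w ∈ W := fun g w hw => g.2.2 w hw
  have hW₂ : ∀ g : Γ₁, ∀ w ∈ W', Γ₁.subtype g w ∈ W' := fun g w hw => hΓW' g g.2 w hw
  let ρ₁ := restr Γ₁.subtype W hW₁
  let ρ₂ := restr Γ₁.subtype W' hW₂
  have hOE₁ : ∀ g (w : W), ∃ u ∈ M.subgroupOf Γ₁, ρ₁ g w = ρ₁ u w := by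
    intro g w
    obtain ⟨u, hu, huv⟩ := hOE g (hΓH g.2) w
    by_cases huM : u ∈ M
    · exact ⟨⟨u, hMΓ huM⟩, huM, Subtype.ext huv⟩
    · have h1 : u (w : V) ∈ W ⊓ W' := by
        refine ⟨?_, hiii u hu huM w w.2⟩
        rw [← huv]
        exact g.2.2 w w.2
      rw [hinf, Subgroup.mem_bot] at h1
      have h2 : (w : V) = 1 := by
        have := (map_eq_one_iff u u.injective).1 h1
        exact this
      refine ⟨1, Subgroup.one_mem _, Subtype.ext ?_⟩
      show (g : MulAut V) w = (1 : MulAut V) w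
      rw [h2, map_one, map_one]
  have hOE₂ : ∀ g (w : W'), ∃ u ∈ M.subgroupOf Γ₁, ρ₂ g w = ρ₂ u w := by
    intro g w
    obtain ⟨u, hu, huv⟩ := hOE g (hΓH g.2) w
    by_cases huM : u ∈ M
    · exact ⟨⟨u, hMΓ huM⟩, huM, Subtype.ext huv⟩
    · have h1 : u (w : V) ∈ W ⊓ W' := by
        refine ⟨hiv u hu huM w w.2, ?_⟩
        rw [← huv]
        exact hΓW' g g.2 w w.2
      rw [hinf, Subgroup.mem_bot] at h1
      have h2 : (w : V) = 1 := by
        have := (map_eq_one_iff u u.injective).1 h1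
        exact this
      refine ⟨1, Subgroup.one_mem _, Subtype.ext ?_⟩
      show (g : MulAut V) w = (1 : MulAut V) w
      rw [h2, map_one, map_one]
  have hΓgood : ∀ g ∈ Γ₁, ∃ e : ℕ, g ^ 2 ^ e = 1 := by
    intro g hg
    obtain ⟨e, he⟩ := (hSW W hW2).gen ρ₁ hcopΓ (M.subgroupOf Γ₁) hM' hOE₁ ⟨g, hg⟩
    obtain ⟨f, hf⟩ := (hSW W' hW'2).gen ρ₂ hcopΓ (M.subgroupOf Γ₁) hM' hOE₂ ⟨g, hg⟩
    refine ⟨e + f, ?_⟩
    set a : Γ₁ := ⟨g, hg⟩ ^ 2 ^ (e + f) with ha
    have haval : (a : MulAut V) = g ^ 2 ^ (e + f) := by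
      rw [ha]
      rfl
    have h1 : ρ₁ a = 1 := by
      rw [ha, map_pow]
      exact pow_two_pow_add_left he
    have h2 : ρ₂ a = 1 := by
      rw [ha, map_pow]
      exact pow_two_pow_add_right hf
    rw [← haval]
    ext x
    have h3 : x ∈ W ⊔ W' := by rw [hsup]; trivial
    obtain ⟨y, hy, z, hz, rfl⟩ := Subgroup.mem_sup.1 h3
    have h4 : (a : MulAut V) y = y :=
      congrArg (fun b : MulAut W => ((b ⟨y, hy⟩ : W) : V)) h1
    have h5 : (a : MulAut V) z = z :=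
      congrArg (fun b : MulAut W' => ((b ⟨z, hz⟩ : W') : V)) h2
    rw [map_mul, h4, h5]
    rfl
  intro h hh
  obtain ⟨e, he⟩ := hΓgood _ (hsq h hh)
  refine ⟨e + 1, ?_⟩
  rw [pow_succ', pow_mul, pow_two]
  exact he

end Cfsg.Agent.Lib.Baer.TwoOrbit
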