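import Mathlib
import Cfsg.Agent.Lib.Baer.TwoOrbit

/-!
# Coprime actions all of whose orbits have `2`-power size, II
-/

set_option autoImplicit false

namespace Cfsg.Agent.Lib.Baer.TwoOrbit

open Subgroup

universe u v

variable {V : Type v} [CommGroup V]

/-- A cyclic Sylow `2`-subgroup gives a normal `2`-complement. -/
theorem normal_complement_of_cyclic {G : Type*} [Group G] [Finite G]
    (S : Sylow 2 G) (hc : IsCyclic S) :
    ∃ (N : Subgroup G) (_ : N.Normal), (Nat.card N).Coprime 2 ∧ IsPGroup 2 (G ⧸ N) := by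
  haveI : Fact (Nat.Prime 2) := ⟨Nat.prime_two⟩
  have hcomm : IsMulCommutative S := by
    refine ⟨⟨fun a b => ?_⟩⟩
    obtain ⟨g, hg⟩ := hc.exists_generator
    obtain ⟨i, rfl⟩ := mem_zpowers_iff.1 (hg a)
    obtain ⟨j, rfl⟩ := mem_zpowers_iff.1 (hg b)
    exact (Commute.refl g).zpow_zpow i j
  have h := Cfsg.Agent.Lib.Basic.BurnsideAut.hasNormalPComplement_of_aut S hcomm (by
    intro r hr hr2 _ σ hσ
    exfalso
    have h1 : r ∣ Nat.card (MulAut S) := hσ ▸ orderOf_dvd_natCard σ
    rw [IsCyclic.card_mulAut] at h1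
    obtain ⟨n, hn⟩ := IsPGroup.iff_card.1 S.2
    rw [hn] at h1
    rcases n with _ | n
    · simp at h1
      exact hr.one_lt.ne' h1
    · rw [Nat.totient_prime_pow_succ Nat.prime_two] at h1
      simp only [Nat.add_one_sub_one, Nat.reduceSub, mul_one] at h1
      have := hr.dvd_of_dvd_pow h1
      exact hr2 ((Nat.prime_dvd_prime_iff_eq hr Nat.prime_two).1 this))
  obtain ⟨N, hn, h1, h2⟩ := Cfsg.Agent.Lib.Transfer.Basic.hasNormalPComplement_iff.1 h
  exact ⟨N, hn, h1, h2⟩

/-- **Cyclic case.** -/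
theorem case_cyclic [Finite V] (H : Subgroup (MulAut V)) (S : Sylow 2 H) (hc : IsCyclic S)
    (hOE : ∀ h : H, ∀ v, ∃ u ∈ (S : Subgroup H), (h : MulAut V) v = (u : MulAut V) v) :
    ∀ h ∈ H, ∃ e : ℕ, h ^ 2 ^ e = 1 := by
  classical
  haveI : Finite (MulAut V) :=
    Finite.of_injective (fun a : MulAut V => (a : V → V)) DFunLike.coe_injective
  haveI : Fact (Nat.Prime 2) := ⟨Nat.prime_two⟩
  obtain ⟨N, hn, h1, h2⟩ := normal_complement_of_cyclic S hc
  -- `N` acts trivially
  have hfix : ∀ (v : V), N ≤ MulAction.stabilizer H v := by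
    intro v
    have horb : MulAction.orbit H v = MulAction.orbit (S : Subgroup H) v := by
      ext x
      constructor
      · rintro ⟨h, rfl⟩
        obtain ⟨u, hu, huv⟩ := hOE h v
        exact ⟨⟨u, hu⟩, huv.symm⟩
      · rintro ⟨u, rfl⟩
        exact ⟨u.1, rfl⟩
    obtain ⟨n, hn'⟩ := S.2.card_orbit v
    have hidx : (MulAction.stabilizer H v).index = 2 ^ n := by
      rw [MulAction.index_stabilizer, horb, Set.ncard, Set.encard]
      simp only [ENat.card_eq_coe_natCard]
      exact hn'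
    have h3 := Cfsg.Agent.Lib.ClassSize.Coprime.relIndex_dvd_index_of_normal_right
      (MulAction.stabilizer H v) N
    have h4 : (MulAction.stabilizer H v).relIndex N ∣ Nat.card N := Subgroup.relIndex_dvd_card _ _
    rw [hidx] at h3
    have h5 : (MulAction.stabilizer H v).relIndex N = 1 :=
      Nat.eq_one_of_dvd_coprimes (Nat.Coprime.pow_right n h1) h4 h3
    exact Subgroup.relIndex_eq_one.1 h5
  have hNbot : N = ⊥ := by
    rw [eq_bot_iff]
    intro g hg
    rw [Subgroup.mem_bot]
    apply Subtype.ext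
    ext v
    exact hfix v hg
  intro h hh
  obtain ⟨k, hk⟩ := h2 (QuotientGroup.mk ⟨h, hh⟩)
  refine ⟨k, ?_⟩
  have h3 : ((⟨h, hh⟩ : H) ^ 2 ^ k) ∈ N := by
    rw [← QuotientGroup.eq_one_iff]
    exact hk
  rw [hNbot, Subgroup.mem_bot] at h3
  exact congrArg Subtype.val h3

/-- The eigenvalue trick. -/
theorem eigen {b u : MulAut V} {w : V} {l : ℤ} (hub : b w = u w) (hl : b w = w ^ l) {n e : ℕ}
    (hn : Odd n) (hb : b ^ n = 1) (hu : u ^ 2 ^ e = 1) : b w = w := by
  have hkey : ∀ i : ℕ, ∃ m : ℤ, (b ^ i) w = w ^ m ∧ (u ^ i) w = w ^ m := by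
    intro i
    induction i with
    | zero => exact ⟨1, by simp, by simp⟩
    | succ i ih =>
      obtain ⟨m, h1, h2⟩ := ih
      refine ⟨l * m, ?_, ?_⟩
      · rw [pow_succ', MulAut.mul_apply, h1, map_zpow, hl, ← zpow_mul]
      · rw [pow_succ', MulAut.mul_apply, h2, map_zpow, ← hub, hl, ← zpow_mul]
  obtain ⟨m, h1, h2⟩ := hkey (2 ^ e)
  rw [hu] at h2
  have h3 : (b ^ 2 ^ e) w = w := by
    rw [h1, ← h2]
    rfl
  have hcop : Nat.Coprime (2 ^ e) (orderOf b) := by
    have h4 : orderOf b ∣ n := orderOf_dvd_of_pow_eq_one hb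
    have h5 : Nat.Coprime 2 n := Nat.coprime_two_left.2 hn
    exact Nat.Coprime.pow_left e (Nat.Coprime.coprime_dvd_right h4 h5)
  obtain ⟨k, hk⟩ := exists_pow_eq_self_of_coprime hcop
  have h4 : ∀ k : ℕ, ((b ^ 2 ^ e) ^ k) w = w := by
    intro k
    induction k with
    | zero => simp
    | succ k ih =>
      rw [pow_succ, MulAut.mul_apply, h3, ih]
  have h5 := h4 k
  rw [hk] at h5
  exact h5

/-- The commutator map. -/
def dMap (b : MulAut V) : V →* V where
  toFun x := b x * x⁻¹
  map_one' := by simp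
  map_mul' x y := by
    rw [map_mul, mul_inv_rev, mul_comm y⁻¹ x⁻¹]
    exact mul_mul_mul_comm _ _ _ _

theorem dMap_apply (b : MulAut V) (x : V) : dMap b x = b x * x⁻¹ := rfl

/-- **Small case.** -/
theorem case_small {q : ℕ} [hq : Fact q.Prime] [Finite V] (hV : IsPGroup q V)
    (hcard : Nat.card V ≤ q ^ 2) (H Q : Subgroup (MulAut V)) (hQH : Q ≤ H)
    (hcop : (Nat.card H).Coprime q) (hQ : IsPGroup 2 Q)
    (hOE : ∀ h ∈ H, ∀ v, ∃ u ∈ Q, h v = u v) : ∀ h ∈ H, ∃ e : ℕ, h ^ 2 ^ e = 1 := by
  classical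
  haveI : Finite (MulAut V) :=
    Finite.of_injective (fun a : MulAut V => (a : V → V)) DFunLike.coe_injective
  -- no elements of odd prime order
  have hnoodd : ∀ b ∈ H, ∀ r : ℕ, r.Prime → r ≠ 2 → orderOf b = r → False := by
    intro b hb r hr hr2 hord
    haveI : Fact r.Prime := ⟨hr⟩
    have hb1 : b ≠ 1 := by
      rintro rfl
      rw [orderOf_one] at hord
      exact hr.one_lt.ne hord
    have hnt : Nontrivial V := by
      by_contra hnt
      rw [not_nontrivial_iff_subsingleton] at hnt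
      exact hb1 (by ext v; exact Subsingleton.elim _ _)
    obtain ⟨v, hv⟩ := exists_ne (1 : V)
    -- a fixed point
    let H' : Subgroup H := Q.subgroupOf H
    have hH'2 : IsPGroup 2 H' := hQ.comap_subtype
    have horb : MulAction.orbit H v = MulAction.orbit H' v := by
      ext x
      constructor
      · rintro ⟨h, rfl⟩
        obtain ⟨u, hu, huv⟩ := hOE h h.2 v
        exact ⟨⟨⟨u, hQH hu⟩, hu⟩, huv.symm⟩
      · rintro ⟨u, rfl⟩
        exact ⟨u.1, rfl⟩
    haveI : Finite (MulAction.orbit H' v) := Subtype.finite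
    obtain ⟨n, hn⟩ := hH'2.card_orbit v
    have hcardΩ : Nat.card (MulAction.orbit H v) = 2 ^ n := by
      rw [horb]
      exact hn
    let b' : H := ⟨b, hb⟩
    have hb'ord : orderOf b' = r := by
      rw [← hord]
      exact Subgroup.orderOf_mk b hb
    have hZ : IsPGroup r (zpowers b') := by
      apply IsPGroup.of_card (n := 1)
      rw [Nat.card_zpowers, hb'ord, pow_one]
    have hnd : ¬ r ∣ Nat.card (MulAction.orbit H v) := by
      rw [hcardΩ]
      exact fun h => hr2 ((Nat.prime_dvd_prime_iff_eq hr Nat.prime_two).1 (hr.dvd_of_dvd_pow h))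
    obtain ⟨⟨x, hx⟩, hfix⟩ := hZ.nonempty_fixed_point_of_prime_not_dvd_card _ hnd
    have hbx : b x = x := by
      have h1 := hfix ⟨b', mem_zpowers b'⟩
      exact congrArg Subtype.val h1
    have hx1 : x ≠ 1 := by
      obtain ⟨g, rfl⟩ := hx
      intro h
      apply hv
      have h1 : (g : MulAut V) v = 1 := h
      exact (map_eq_one_iff (g : MulAut V) (g : MulAut V).injective).1 h1
    -- the commutator map
    have hker : x ∈ (dMap b).ker := by
      rw [MonoidHom.mem_ker, dMap_apply, hbx]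
      simp
    have hmul : Nat.card (dMap b).ker * Nat.card (dMap b).range = Nat.card V := by
      rw [← Subgroup.index_ker, Subgroup.card_mul_index]
    have hqK : q ∣ Nat.card (dMap b).ker := by
      have h1 : IsPGroup q (dMap b).ker := hV.to_subgroup _
      rcases h1.card_eq_or_dvd with h2 | h2
      · exfalso
        have := Subgroup.eq_bot_of_card_eq _ h2
        rw [this, Subgroup.mem_bot] at hker
        exact hx1 hker
      · exact h2
    have hR : Nat.card (dMap b).range ≤ q := by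
      obtain ⟨t, ht⟩ := hqK
      rw [ht] at hmul
      have h2 : q * (t * Nat.card (dMap b).range) ≤ q * q := by
        rw [← mul_assoc, hmul, ← pow_two]
        exact hcard
      have h3 := Nat.le_of_mul_le_mul_left h2 hq.out.pos
      have ht0 : 0 < t := by
        rcases Nat.eq_zero_or_pos t with h4 | h4
        · rw [h4, mul_zero] at ht
          exact absurd ht (Nat.card_pos).ne'
        · exact h4
      calc Nat.card (dMap b).range = 1 * Nat.card (dMap b).range := (one_mul _).symm
        _ ≤ t * Nat.card (dMap b).range := Nat.mul_le_mul_right _ ht0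
        _ ≤ q := h3
    -- the image is fixed
    have hfixR : ∀ w ∈ (dMap b).range, b w = w := by
      intro w hw
      by_cases hw1 : w = 1
      · rw [hw1, map_one]
      have hoq : ∃ k, orderOf w = q ^ k := by
        obtain ⟨k, hk⟩ := hV w
        obtain ⟨m, -, hm⟩ := (Nat.dvd_prime_pow hq.out).1 (orderOf_dvd_of_pow_eq_one hk)
        exact ⟨m, hm⟩
      obtain ⟨k, hk⟩ := hoq
      have hk0 : k ≠ 0 := by
        rintro rfl
        rw [pow_zero, orderOf_eq_one_iff] at hk
        exact hw1 hk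
      have hle : zpowers w ≤ (dMap b).range := by
        rw [zpowers_le]
        exact hw
      have hc1 : Nat.card (zpowers w) = q ^ k := by
        rw [Nat.card_zpowers, hk]
      have hc2 : q ^ k ≤ q := by
        rw [← hc1]
        exact (Nat.card_mono (Set.toFinite _) hle).trans hR
      have hc3 : Nat.card (dMap b).range ≤ Nat.card (zpowers w) := by
        rw [hc1]
        refine hR.trans ?_
        exact Nat.le_self_pow hk0 q
      have heq : zpowers w = (dMap b).range := Subgroup.eq_of_le_of_card_ge hle hc3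
      have hd : dMap b w ∈ zpowers w := by
        rw [heq]
        exact ⟨w, rfl⟩
      obtain ⟨l, hl⟩ := mem_zpowers_iff.1 hd
      have hl' : b w = w ^ (l + 1) := by
        rw [zpow_add, zpow_one, hl, dMap_apply]
        group
      obtain ⟨u, hu, huw⟩ := hOE b hb w
      obtain ⟨e, he⟩ := hQ ⟨u, hu⟩
      have hue : u ^ 2 ^ e = 1 := congrArg Subtype.val he
      have hodd : Odd r := hr.odd_of_ne_two hr2
      have hbr : b ^ r = 1 := by rw [← hord, pow_orderOf_eq_one]
      exact eigen huw hl' hodd hbr hue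
    have hrq : r.Coprime q := by
      have h1 : r ∣ Nat.card H := hb'ord ▸ orderOf_dvd_natCard b'
      exact Nat.Coprime.coprime_dvd_left h1 hcop
    have hbr : b ^ r = 1 := by rw [← hord, pow_orderOf_eq_one]
    exact hb1 (eq_one_of_unipotent hV (W := (dMap b).range) hfixR (fun v => ⟨v, rfl⟩) hbr hrq)
  intro h hh
  have hne : orderOf h ≠ 0 := (orderOf_pos h).ne'
  obtain ⟨e, n, hn, hen⟩ := Nat.exists_eq_two_pow_mul_odd hne
  by_cases hn1 : n = 1
  · refine ⟨e, ?_⟩
    rw [← mul_one (2 ^ e), ← hn1, ← hen, pow_orderOf_eq_one]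
  · exfalso
    have hr := Nat.minFac_prime hn1
    have hrd : n.minFac ∣ n := Nat.minFac_dvd n
    have hr2 : n.minFac ≠ 2 := by
      intro h2
      rw [h2] at hrd
      exact (Nat.not_even_iff_odd.2 hn) (even_iff_two_dvd.2 hrd)
    have hdvd : n.minFac ∣ orderOf h := by
      rw [hen]
      exact Dvd.dvd.mul_left hrd _
    exact hnoodd (h ^ (orderOf h / n.minFac)) (H.pow_mem hh _) n.minFac hr hr2
      (orderOf_pow_orderOf_div hne hdvd)

/-- **The theorem on `2`-orbits.** -/
theorem two_main {q : ℕ} [hq : Fact q.Prime] (hodd : q ≠ 2) :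
    ∀ (n : ℕ) (V : Type v) [CommGroup V] [Finite V], Nat.card V = n → IsPGroup q V → St q V := by
  intro n
  induction n using Nat.strong_induction_on with
  | _ n ih =>
  intro V _ _ hn hV H P hPH hcop hP hOE
  classical
  haveI : Finite (MulAut V) :=
    Finite.of_injective (fun a : MulAut V => (a : V → V)) DFunLike.coe_injective
  haveI : Fact (Nat.Prime 2) := ⟨Nat.prime_two⟩
  by_cases hnt : Nontrivial V
  swap
  · rw [not_nontrivial_iff_subsingleton] at hnt
    intro h _
    refine ⟨0, ?_⟩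
    rw [pow_zero, pow_one]
    ext v
    exact Subsingleton.elim _ _
  have hSW : ∀ W : Subgroup V, W ≠ ⊤ → St q W := by
    intro W hW
    refine ih (Nat.card W) ?_ W rfl (hV.to_subgroup W)
    rw [← hn]
    have h1 : Nat.card W * W.index = Nat.card V := W.card_mul_index
    have h2 : W.index ≠ 1 := fun h => hW (Subgroup.index_eq_one.1 h)
    have h3 : W.index ≠ 0 := Subgroup.index_ne_zero_of_finite
    have h4 : 0 < Nat.card W := Nat.card_pos
    have h5 : 2 ≤ W.index := by omega
    nlinarith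
  have hSQ : ∀ W : Subgroup V, W ≠ ⊥ → St q (V ⧸ W) := by
    intro W hW
    refine ih (Nat.card (V ⧸ W)) ?_ (V ⧸ W) rfl (hV.to_quotient W)
    rw [← hn]
    have h1 : Nat.card W * W.index = Nat.card V := W.card_mul_index
    have h2 : Nat.card W ≠ 1 := fun h => hW (Subgroup.eq_bot_of_card_eq W h)
    have h3 : 0 < Nat.card W := Nat.card_pos
    have h4 : 0 < W.index := Nat.pos_of_ne_zero Subgroup.index_ne_zero_of_finite
    have h5 : 2 ≤ Nat.card W := by omega
    show W.index < Nat.card V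
    nlinarith
  -- pass to a Sylow subgroup
  have hP' : IsPGroup 2 (P.subgroupOf H) := hP.comap_subtype
  obtain ⟨S, hS⟩ := hP'.exists_le_sylow
  set Q : Subgroup (MulAut V) := (S : Subgroup H).map H.subtype with hQdef
  have hQH : Q ≤ H := Subgroup.map_subtype_le _
  have hQ : IsPGroup 2 Q := S.2.map H.subtype
  have hPQ : P ≤ Q := by
    intro u hu
    exact ⟨⟨u, hPH hu⟩, hS hu, rfl⟩
  have hOEQ : ∀ h ∈ H, ∀ v, ∃ u ∈ Q, h v = u v := by
    intro h hh v
    obtain ⟨u, hu, huv⟩ := hOE h hh v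
    exact ⟨u, hPQ hu, huv⟩
  by_cases hA : ∃ W : Subgroup V, Inv W Q ∧ W ≠ ⊥ ∧ W ≠ ⊤
  · obtain ⟨W, h1, h2, h3⟩ := hA
    exact case_reducible hV hSW hSQ H Q hQH hcop hQ hOEQ W h1 h2 h3
  have hIrr : Irr Q := by
    intro W hW
    by_contra hno
    push Not at hno
    exact hA ⟨W, hW, hno.1, hno.2⟩
  by_cases hB : ∃ (M : Subgroup (MulAut V)) (W : Subgroup V), IdxTwo M Q ∧ Inv W M ∧ W ≠ ⊥ ∧ W ≠ ⊤
  · obtain ⟨M, W, h0, h1, h2, h3⟩ := hB
    exact case_two hSW H Q hQH hcop hQ hOEQ hIrr M h0 W h1 h2 h3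
  have hidx : ∀ M, IdxTwo M Q → Irr M := by
    intro M hM W hW
    by_contra hno
    push Not at hno
    exact hB ⟨M, W, hM, hW, hno.1, hno.2⟩
  rcases final hodd hV Q hQ hIrr hidx with hc | hc
  · -- cyclic
    have hcS : IsCyclic S := by
      have e : (S : Subgroup H) ≃* Q :=
        (S : Subgroup H).equivMapOfInjective H.subtype H.subtype_injective
      exact isCyclic_of_surjective e.symm e.symm.surjective
    apply case_cyclic H S hcS
    intro h v
    obtain ⟨u, ⟨u', hu', rfl⟩, huv⟩ := hOEQ h h.2 v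
    exact ⟨u', hu', huv⟩
  · exact case_small hV hc H Q hQH hcop hQ hOEQ

end Cfsg.Agent.Lib.Baer.TwoOrbit
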